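import Cfsg.Agent.Lib.Clifford.DetChar
import Cfsg.Agent.Lib.Clifford.Gallagher
import Cfsg.Agent.Lib.RealChar.Extension

/-!
# Extending invariant characters: linear characters, determinants, Gallagher
-/

set_option autoImplicit false
set_option linter.style.haveILetI false

open Cfsg CfsgLib.CharTheory

namespace CfsgLib.Clifford

variable {G : Type*} [Group G] [Finite G] {N : Subgroup G} [hN : N.Normal]

/-- The exponents `k` with `λ ^ k` extendible. -/
def extExp (lam : N →* ℂˣ) : AddSubgroup ℤ where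
  carrier := {k | ∃ μ : G →* ℂˣ, ∀ n : N, μ n = lam n ^ k}
  zero_mem' := ⟨1, fun n => by simp⟩
  add_mem' := by
    rintro a b ⟨μ, hμ⟩ ⟨ν, hν⟩
    exact ⟨μ * ν, fun n => by simp [hμ, hν, zpow_add]⟩
  neg_mem' := by
    rintro a ⟨μ, hμ⟩
    exact ⟨μ⁻¹, fun n => by simp [hμ, zpow_neg]⟩

theorem index_mem_extExp {lam : N →* ℂˣ}
    (hinv : ∀ (g : G) (n : N), lam ⟨g * n * g⁻¹, hN.conj_mem (n : G) n.2 g⟩ = lam n)
    (H : Subgroup G) (hNH : N ≤ H) (ν : H →* ℂˣ) (hν : ∀ n : N, ν ⟨n, hNH n.2⟩ = lam n) :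
    (H.index : ℤ) ∈ extExp lam := by
  haveI : H.FiniteIndex := ⟨Subgroup.index_ne_zero_of_finite⟩
  refine ⟨MonoidHom.transfer ν, fun n => ?_⟩
  rw [zpow_natCast]
  refine transfer_apply_of_invariant hNH ν n (lam n) fun g => ?_
  rw [show (⟨g⁻¹ * n * g, hNH (by simpa using hN.conj_mem (n : G) n.2 g⁻¹)⟩ : H)
      = ⟨((⟨g⁻¹ * n * g⁻¹⁻¹, hN.conj_mem (n : G) n.2 g⁻¹⟩ : N) : G), hNH (Subtype.prop _)⟩ from
    Subtype.ext (by simp)]
  rw [hν]
  exact hinv g⁻¹ n

theorem orderOf_mem_extExp (lam : N →* ℂˣ) : (orderOf lam : ℤ) ∈ extExp lam :=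
  ⟨1, fun n => by
    rw [zpow_natCast, ← MonoidHom.pow_apply, pow_orderOf_eq_one]; rfl⟩

/-- A linear character extendible to subgroups of index prime to each prime divisor of its order
extends. -/
theorem exists_extension_linear {lam : N →* ℂˣ}
    (hinv : ∀ (g : G) (n : N), lam ⟨g * n * g⁻¹, hN.conj_mem (n : G) n.2 g⟩ = lam n)
    (hp : ∀ p : ℕ, p.Prime → p ∣ orderOf lam → ∃ (H : Subgroup G) (hNH : N ≤ H) (ν : H →* ℂˣ),
      ¬ p ∣ H.index ∧ ∀ n : N, ν ⟨n, hNH n.2⟩ = lam n) :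
    ∃ μ : G →* ℂˣ, ∀ n : N, μ n = lam n := by
  obtain ⟨k, hk⟩ := Int.subgroup_cyclic (extExp lam)
  have hdiv : ∀ p : ℕ, p.Prime → ¬ (p : ℤ) ∣ k := by
    intro p hpp hpk
    have hmem : ∀ m : ℕ, (m : ℤ) ∈ extExp lam → p ∣ m := fun m hm => by
      rw [hk, AddSubgroup.mem_closure_singleton] at hm
      obtain ⟨t, ht⟩ := hm
      rw [← Int.natCast_dvd_natCast, ← ht, smul_eq_mul]
      exact hpk.mul_left t
    obtain ⟨H, hNH, ν, hi, hν⟩ := hp p hpp (hmem _ (orderOf_mem_extExp lam))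
    exact hi (hmem _ (index_mem_extExp hinv H hNH ν hν))
  have hone : (1 : ℤ) ∈ extExp lam := by
    have hk1 : k.natAbs = 1 := by
      by_contra hne
      obtain ⟨p, hp, hpk⟩ := Nat.exists_prime_and_dvd hne
      exact hdiv p hp (Int.natCast_dvd.mpr hpk)
    rw [hk, AddSubgroup.mem_closure_singleton]
    exact ⟨k, by rcases Int.natAbs_eq k with h' | h' <;> rw [h', hk1] <;> norm_num⟩
  obtain ⟨μ, hμ⟩ := hone
  exact ⟨μ, fun n => by rw [hμ, zpow_one]⟩

theorem exists_pow_eq_of_coprime {A : Type*} [Group A] {ν : A} {m d : ℕ} (hcop : Nat.Coprime m d)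
    (h : ν ^ m = 1) : ∃ a : ℤ, (ν ^ a) ^ d = ν := by
  refine ⟨Nat.gcdB m d, ?_⟩
  have hbez : (1 : ℤ) = m * Nat.gcdA m d + d * Nat.gcdB m d := by
    have := Nat.gcd_eq_gcd_ab m d
    rwa [hcop, Nat.cast_one] at this
  rw [← zpow_natCast, ← zpow_mul]
  conv_rhs => rw [← zpow_one ν, hbez, zpow_add, zpow_mul ν (m : ℤ), zpow_natCast, h, one_zpow,
    one_mul]
  rw [mul_comm]

theorem zpow_pow_eq_one {A : Type*} [Group A] {t : A} {k : ℕ} (h : t ^ k = 1) (a : ℤ) :
    (t ^ a) ^ k = 1 := by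
  rw [← zpow_natCast, ← zpow_mul, mul_comm, zpow_mul, zpow_natCast, h, one_zpow]

theorem eq_of_pow_coprime {A : Type*} [CommGroup A] {x y : A} {m k : ℕ} (hcop : Nat.Coprime m k)
    (h1 : (x / y) ^ m = 1) (h2 : x ^ k = y ^ k) : x = y := by
  have h3 : (x / y) ^ k = 1 := by rw [div_pow, h2, div_self']
  have h4 := pow_gcd_eq_one.2 ⟨h1, h3⟩
  rw [Nat.Coprime.gcd_eq_one hcop, pow_one] at h4
  exact div_eq_one.1 h4

theorem pow_mul_eq_of_pow_eq_one {A : Type*} [Group A] {x y : A} {m k : ℕ} (hx : x ^ m = 1)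
    (hy : y ^ k = 1) : x ^ (m * k) = y ^ (m * k) := by
  rw [pow_mul, hx, one_pow, mul_comm, pow_mul, hy, one_pow]

/-- A linear character of order prime to the index has a unique extension of order prime to the
index, and that extension has the same order. -/
theorem exists_unique_extension_linear {lam : N →* ℂˣ}
    (hinv : ∀ (g : G) (n : N), lam ⟨g * n * g⁻¹, hN.conj_mem (n : G) n.2 g⟩ = lam n)
    (hcop : Nat.Coprime N.index (orderOf lam)) :
    ∃ μ : G →* ℂˣ, ((∀ n : N, μ n = lam n) ∧ orderOf μ = orderOf lam) ∧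
      ∀ μ' : G →* ℂˣ, (∀ n : N, μ' n = lam n) → Nat.Coprime N.index (orderOf μ') → μ' = μ := by
  haveI : N.FiniteIndex := ⟨Subgroup.index_ne_zero_of_finite⟩
  have ho : 0 < orderOf lam := by
    rw [orderOf_pos_iff, isOfFinOrder_iff_pow_eq_one]
    exact ⟨Nat.card N, Nat.card_pos, MonoidHom.ext fun n => by
      rw [MonoidHom.pow_apply, ← map_pow, pow_card_eq_one', map_one]; rfl⟩
  have hT : ∀ n : N, MonoidHom.transfer lam (n : G) = lam n ^ N.index := fun n => by
    refine transfer_apply_of_invariant le_rfl lam n (lam n) fun g => ?_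
    rw [show (⟨g⁻¹ * n * g, by simpa using hN.conj_mem (n : G) n.2 g⁻¹⟩ : N)
        = ⟨g⁻¹ * n * g⁻¹⁻¹, hN.conj_mem (n : G) n.2 g⁻¹⟩ from Subtype.ext (by simp)]
    exact hinv g⁻¹ n
  have hTord : (MonoidHom.transfer lam) ^ orderOf lam = 1 := by
    refine MonoidHom.ext fun g => ?_
    letI : Fintype (Quotient (MulAction.orbitRel (Subgroup.zpowers g) (G ⧸ N))) := Fintype.ofFinite _
    rw [MonoidHom.pow_apply, MonoidHom.transfer_eq_prod_quotient_orbitRel_zpowers_quot,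
      ← Finset.prod_pow]
    refine Finset.prod_eq_one fun q _ => ?_
    rw [← MonoidHom.pow_apply, pow_orderOf_eq_one]
    rfl
  have hlamord : lam ^ orderOf lam = 1 := pow_orderOf_eq_one lam
  obtain ⟨a, ha⟩ := exists_pow_eq_of_coprime (A := N →* ℂˣ) hcop.symm hlamord
  refine ⟨MonoidHom.transfer lam ^ a, ⟨fun n => ?_, ?_⟩, fun μ' hμ' hc => ?_⟩
  · rw [MonoidHom.zpow_apply, hT]
    conv_rhs => rw [← ha]
    rw [MonoidHom.pow_apply, MonoidHom.zpow_apply, ← zpow_natCast, ← zpow_natCast, ← zpow_mul,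
      ← zpow_mul, mul_comm]
  · refine Nat.dvd_antisymm (orderOf_dvd_of_pow_eq_one ?_) (orderOf_dvd_of_pow_eq_one ?_)
    · exact zpow_pow_eq_one (A := G →* ℂˣ) hTord a
    · refine MonoidHom.ext fun n => ?_
      have h1 : (MonoidHom.transfer lam ^ a) (n : G) = lam n := by
        rw [MonoidHom.zpow_apply, hT]
        conv_rhs => rw [← ha]
        rw [MonoidHom.pow_apply, MonoidHom.zpow_apply, ← zpow_natCast, ← zpow_natCast, ← zpow_mul,
          ← zpow_mul, mul_comm]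
      rw [MonoidHom.pow_apply, ← h1, ← MonoidHom.pow_apply, pow_orderOf_eq_one]
      rfl
  · set μ := MonoidHom.transfer lam ^ a with hμdef
    have hμn : ∀ n : N, μ n = lam n := fun n => by
      rw [hμdef, MonoidHom.zpow_apply, hT]
      conv_rhs => rw [← ha]
      rw [MonoidHom.pow_apply, MonoidHom.zpow_apply, ← zpow_natCast, ← zpow_natCast, ← zpow_mul,
        ← zpow_mul, mul_comm]
    have h1 : (μ' / μ) ^ N.index = 1 := MonoidHom.ext fun g => by
      rw [MonoidHom.pow_apply, ← map_pow, MonoidHom.div_apply]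
      have hg : g ^ N.index ∈ N := N.pow_index_mem g
      have e1 : μ' (g ^ N.index) = lam ⟨g ^ N.index, hg⟩ := hμ' ⟨_, hg⟩
      rw [e1, show μ (g ^ N.index) = lam ⟨g ^ N.index, hg⟩ from hμn ⟨_, hg⟩, div_self']
      rfl
    have hμo : μ ^ orderOf lam = 1 := zpow_pow_eq_one (A := G →* ℂˣ) hTord a
    exact eq_of_pow_coprime (A := G →* ℂˣ) (hc.mul_right hcop) h1
      (pow_mul_eq_of_pow_eq_one (A := G →* ℂˣ) (pow_orderOf_eq_one μ') hμo)

theorem isIrrCharacter_linFun_mul (l : G →* ℂˣ) {χ : G → ℂ} (hχ : IsIrrCharacter G χ) :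
    IsIrrCharacter G (linFun l * χ) :=
  isIrrCharacter_mul_of_norm hχ (isCharacter_linFun l) fun g =>
    norm_eq_one_of_pow_eq_one' (Nat.card_pos (α := G)).ne' (by
      rw [linFun_apply, ← Units.val_pow_eq_pow_val, ← map_pow, pow_card_eq_one', map_one, Units.val_one])

/-- Two extensions of an invariant character differ by a linear character. -/
theorem exists_linFun_of_extensions {θ : N → ℂ} (hθ : IsIrrCharacter N θ) {η χ : G → ℂ}
    (hη : IsIrrCharacter G η) (hηθ : ∀ n : N, η n = θ n) (hχ : IsIrrCharacter G χ)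
    (hχθ : ∀ n : N, χ n = θ n) :
    ∃ l : G →* ℂˣ, (∀ n : N, l n = 1) ∧ χ = linFun l * η := by
  letI : Fintype G := Fintype.ofFinite G
  letI : Fintype N := Fintype.ofFinite _
  have hinv : ∀ g : G, conjChar N θ g = θ := fun g => funext fun n => by
    rw [conjChar_apply, ← hηθ, ← hηθ]
    exact IsIrrCharacter.isClassFunction hη n g
  have hb := gallagher_bijOn (φ := fun _ : N => (1 : ℂ)) isIrrCharacter_one (fun g => rfl) hinv
    (by simpa [Pi.mul_def] using hθ) hη hηθ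
  have hover : classInner (indFun N ((fun _ => 1) * θ)) χ ≠ 0 := by
    rw [show ((fun _ : N => (1 : ℂ)) * θ) = θ by simp [Pi.mul_def],
      CfsgLib.Frobenius.classInner_indFun N θ χ (IsIrrCharacter.isClassFunction hχ),
      show (fun n : N => χ n) = θ from funext hχθ, classInner_self_of_isIrr hθ]
    exact one_ne_zero
  obtain ⟨β, ⟨hβ, hβe⟩, hβχ⟩ := hb.surjOn ⟨hχ, hover⟩
  have hβ1 : β 1 = 1 := by
    have h1 := congrFun hβχ 1
    have e1 : η (1 : G) = θ 1 := hηθ 1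
    have e2 : χ (1 : G) = θ 1 := hχθ 1
    simp only [Pi.mul_apply] at h1
    rw [e1, e2] at h1
    exact mul_right_cancel₀ (apply_one_ne_zero_of_isIrr hθ) (h1.trans (one_mul _).symm)
  obtain ⟨l, hl⟩ := exists_linFun_of_isCharacter (IsIrrCharacter.isCharacter hβ) hβ1
  refine ⟨l, fun n => Units.ext ?_, by rw [← hβχ, hl]⟩
  have h2 := apply_mul_of_over_one hβ hβe n 1
  rw [mul_one, hβ1] at h2
  rw [Units.val_one, ← linFun_apply, ← hl]
  exact h2

/-- Extensions with prescribed determinant. -/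
theorem existsUnique_extension_det {θ : N → ℂ} (hθ : IsIrrCharacter N θ) {d : ℕ} (hd : θ 1 = d)
    (hcop : Nat.Coprime N.index d) {η : G → ℂ} (hη : IsIrrCharacter G η)
    (hηθ : ∀ n : N, η n = θ n) (μ : G →* ℂˣ) (hμ : ∀ n : N, (μ n : ℂ) = detChar θ n) :
    ∃! χ : G → ℂ, IsIrrCharacter G χ ∧ (∀ n : N, χ n = θ n) ∧ detChar χ = linFun μ := by
  obtain ⟨l₀, hl₀⟩ := exists_detChar_eq (IsIrrCharacter.isCharacter hη)
  have hη1 : η 1 = d := by rw [← hd, ← hηθ]; rfl
  set ν := μ / l₀ with hν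
  have hνN : ∀ n : N, ν n = 1 := fun n => by
    rw [hν, MonoidHom.div_apply, div_eq_one]
    refine Units.ext ?_
    rw [hμ, ← detChar_restrict N (IsIrrCharacter.isCharacter hη) hηθ n, hl₀]
    rfl
  have hm : ∀ l : G →* ℂˣ, (∀ n : N, l n = 1) → l ^ N.index = 1 := fun l hl =>
    MonoidHom.ext fun g => by
      rw [MonoidHom.pow_apply, ← map_pow]
      exact hl ⟨_, N.pow_index_mem g⟩
  obtain ⟨a, ha⟩ := exists_pow_eq_of_coprime (A := G →* ℂˣ) hcop (hm ν hνN)
  refine ⟨linFun (ν ^ a) * η, ⟨isIrrCharacter_linFun_mul _ hη, fun n => ?_, ?_⟩, ?_⟩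
  · rw [Pi.mul_apply, linFun_apply, MonoidHom.zpow_apply, hνN, one_zpow, Units.val_one, one_mul, hηθ]
  · rw [detChar_mul_linear _ (IsIrrCharacter.isCharacter hη) hη1, ← map_pow, ha, hl₀, ← map_mul]
    exact congrArg linFun (div_mul_cancel μ l₀)
  · rintro χ ⟨hχ, hχθ, hdet⟩
    obtain ⟨l, hlN, rfl⟩ := exists_linFun_of_extensions hθ hη hηθ hχ hχθ
    rw [detChar_mul_linear _ (IsIrrCharacter.isCharacter hη) hη1, hl₀, ← map_pow, ← map_mul] at hdet
    have h1 : l ^ d = ν := eq_div_iff_mul_eq'.2 (linFun_injective hdet)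
    have h3 : (l / ν ^ a) ^ N.index = 1 := hm _ fun n => by
      rw [MonoidHom.div_apply, MonoidHom.zpow_apply, hlN, hνN, one_zpow, div_one]
    have h4 : l = ν ^ a := eq_of_pow_coprime (A := G →* ℂˣ) hcop h3 (h1.trans ha.symm)
    rw [h4]

/-- Gallagher's extension theorem. -/
theorem exists_extension_of_det {θ : N → ℂ} (hθ : IsIrrCharacter N θ)
    (hinv : ∀ (g : G) (n : N), θ ⟨g * n * g⁻¹, hN.conj_mem (n : G) n.2 g⟩ = θ n)
    {d : ℕ} (hd : θ 1 = d) (hcop : Nat.Coprime N.index d) (μ : G →* ℂˣ)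
    (hμ : ∀ n : N, (μ n : ℂ) = detChar θ n) :
    ∃ χ : G → ℂ, IsIrrCharacter G χ ∧ ∀ n : N, χ n = θ n := by
  obtain ⟨k, ρ, hρ, rfl⟩ := hθ
  have hk : k = d := by
    rw [Representation.char_one, Module.finrank_fin_fun] at hd
    exact_mod_cast hd
  have hinv' : ∀ (g : G) (n : N), ρ.character (MulAut.conjNormal g n) = ρ.character n := fun g n => by
    rw [← hinv g n]
    exact congrArg _ (Subtype.ext (MulAut.conjNormal_apply g n))
  obtain ⟨φ₁, h11, h12⟩ := CfsgLib.RealChar.exists_hom_pow_index hinv' N le_rfl ρ fun n => rfl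
  let φ₂ : CfsgLib.RealChar.interGroup N ρ →* ℂˣ :=
    (Units.map LinearMap.det).comp (CfsgLib.RealChar.interSnd N ρ)
      / μ.comp (CfsgLib.RealChar.interFst N ρ)
  have h21 : ∀ n, φ₂ (CfsgLib.RealChar.interIncl N ρ n) = 1 := fun n => by
    simp only [φ₂, MonoidHom.div_apply, MonoidHom.comp_apply, CfsgLib.RealChar.interFst_incl,
      div_eq_one]
    refine Units.ext ?_
    rw [hμ, detChar_eq ρ rfl, linFun_apply, detHom_apply]
    rfl
  have h22 : ∀ z, φ₂ (CfsgLib.RealChar.interScalar N ρ z) = z ^ d := fun z => by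
    simp only [φ₂, MonoidHom.div_apply, MonoidHom.comp_apply, CfsgLib.RealChar.interFst_scalar,
      map_one, div_one]
    refine Units.ext ?_
    rw [Units.val_pow_eq_pow_val, ← hk]
    show LinearMap.det (algebraMap ℂ (Module.End ℂ (Fin k → ℂ)) (z : ℂ)) = _
    rw [Algebra.algebraMap_eq_smul_one, LinearMap.det_smul, Module.finrank_fin_fun,
      Module.End.one_eq_id, LinearMap.det_id, mul_one]
  have hbez : (1 : ℤ) = N.index * Nat.gcdA N.index d + d * Nat.gcdB N.index d := by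
    have := Nat.gcd_eq_gcd_ab N.index d
    rwa [hcop, Nat.cast_one] at this
  obtain ⟨σ, hσ⟩ := CfsgLib.RealChar.exists_extension_of_hom hinv'
    (φ₁ ^ Nat.gcdA N.index d * φ₂ ^ Nat.gcdB N.index d)
    (fun n => by simp [h11, h21])
    (fun z => by
      rw [MonoidHom.mul_apply, MonoidHom.zpow_apply, MonoidHom.zpow_apply, h12, h22,
        ← zpow_natCast, ← zpow_natCast z d, ← zpow_mul, ← zpow_mul, ← zpow_add, ← hbez, zpow_one])
  exact ⟨_, CfsgLib.RealChar.isIrrCharacter_of_extension ρ σ hσ⟩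

end CfsgLib.Clifford
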