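import Cfsg.Agent.Lib.CharTheory.Degree
import Cfsg.Agent.Lib.Jordan.GaloisNorm
import Mathlib.Algebra.CharP.Lemmas

/-!
# A character of degree prime to `p` does not vanish at a `p`-element
-/

set_option autoImplicit false

open Cfsg

namespace CfsgLib.Clifford

theorem exists_sum_pow_prime_pow {R : Type*} [CommRing R] {ι : Type*} (p : ℕ) (hp : p.Prime)
    (k : ℕ) (s : Finset ι) (f : ι → R) :
    ∃ r : R, (∑ i ∈ s, f i) ^ p ^ k = ∑ i ∈ s, f i ^ p ^ k + p * r := by
  classical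
  induction s using Finset.induction_on with
  | empty => exact ⟨0, by simp [zero_pow (pow_ne_zero k hp.ne_zero)]⟩
  | insert a t hat ih =>
    obtain ⟨r, hr⟩ := ih
    obtain ⟨q, hq⟩ := exists_add_pow_prime_pow_eq hp (f a) (∑ i ∈ t, f i) k
    refine ⟨f a * (∑ i ∈ t, f i) * q + r, ?_⟩
    rw [Finset.sum_insert hat, Finset.sum_insert hat, hq, hr]
    ring

/-- A character of degree prime to `p` does not vanish at a `p`-element. -/
theorem apply_ne_zero_of_pow_prime_pow {G : Type*} [Group G] {χ : G → ℂ} (hχ : IsCharacter G χ)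
    {p : ℕ} (hp : p.Prime) {g : G} {k : ℕ} (hg : g ^ p ^ k = 1) {d : ℕ} (hd : χ 1 = d)
    (hpd : ¬ p ∣ d) : χ g ≠ 0 := by
  intro h0
  haveI : NeZero (p ^ k) := ⟨pow_ne_zero k hp.ne_zero⟩
  obtain ⟨m, l, hl, hpow⟩ := CfsgLib.Jordan.exists_roots_of_isCharacter hχ hg
  have hint : ∀ i, IsIntegral ℤ (l i) := fun i =>
    IsIntegral.of_pow (pow_pos hp.pos k) ((hl i).symm ▸ isIntegral_one)
  let L : Fin m → integralClosure ℤ ℂ := fun i => ⟨l i, hint i⟩
  obtain ⟨r, hr⟩ := exists_sum_pow_prime_pow p hp k Finset.univ L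
  have hm : m = d := by
    have h1 := hpow (p ^ k)
    rw [hg, hd] at h1
    simp only [hl, Finset.sum_const, Finset.card_univ, Fintype.card_fin, nsmul_eq_mul, mul_one]
      at h1
    exact_mod_cast h1.symm
  have h1 := hpow 1
  rw [pow_one, h0] at h1
  simp only [pow_one] at h1
  have h2 := congrArg (fun x : integralClosure ℤ ℂ => (x : ℂ)) hr
  simp only [L, Subalgebra.coe_pow, AddSubmonoidClass.coe_finsetSum, Subalgebra.coe_add,
    Subalgebra.coe_mul, SubringClass.coe_natCast, hl, Finset.sum_const, Finset.card_univ,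
    Fintype.card_fin, nsmul_eq_mul, mul_one, ← h1, zero_pow (pow_ne_zero k hp.ne_zero)] at h2
  refine hpd (hm ▸ CfsgLib.CharTheory.dvd_of_isIntegral_natCast_div hp.ne_zero ?_)
  have h3 : (m : ℂ) / p = -(r : ℂ) := by
    rw [div_eq_iff (Nat.cast_ne_zero.2 hp.ne_zero)]
    linear_combination -h2
  rw [h3]
  exact r.2.neg

end CfsgLib.Clifford
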