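import Mathlib
import Cfsg.Agent.Lib.Clifford.NonVanish
import Cfsg.Agent.Lib.CharDegreesTheory.IntCong

/-!
Characters of a cyclic group all of whose values at non-identity elements are `0`, `1` or `-1`.
-/

set_option autoImplicit false
set_option linter.style.haveILetI false

open Cfsg CfsgLib.CharDegreesTheory

namespace CfsgLib.Clifford

universe u

/-- Frobenius congruence for the value of a character. -/
theorem apply_pow_prime_pow_cong {G : Type u} [Group G] [Finite G] {χ : G → ℂ}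
    (hχ : IsCharacter G χ) (g : G) {q : ℕ} (hq : q.Prime) (k : ℕ) :
    IntCong q (χ g ^ q ^ k) (χ (g ^ q ^ k)) := by
  haveI : NeZero (orderOf g) := ⟨(orderOf_pos g).ne'⟩
  obtain ⟨d, l, hl, hpow⟩ := CfsgLib.Jordan.exists_roots_of_isCharacter hχ (pow_orderOf_eq_one g)
  have hint : ∀ i, IsIntegral ℤ (l i) := fun i =>
    IsIntegral.of_pow (orderOf_pos g) ((hl i).symm ▸ isIntegral_one)
  let L : Fin d → integralClosure ℤ ℂ := fun i => ⟨l i, hint i⟩
  obtain ⟨r, hr⟩ := exists_sum_pow_prime_pow q hq k Finset.univ L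
  have h1 := hpow 1
  simp only [pow_one] at h1
  have h2 := congrArg (fun x : integralClosure ℤ ℂ => (x : ℂ)) hr
  simp only [L, Subalgebra.coe_pow, AddSubmonoidClass.coe_finsetSum, Subalgebra.coe_add,
    Subalgebra.coe_mul, SubringClass.coe_natCast] at h2
  exact ⟨r, r.2, by rw [h1, h2, hpow]; ring⟩

/-- The sum of the products of pairs. -/
theorem exists_pair_finset {ι : Type*} [DecidableEq ι] {R : Type*} [CommRing R] (f : ι → R)
    (s : Finset ι) : ∃ P : Finset (ι × ι), P ⊆ s ×ˢ s ∧ ∀ e : ℕ,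
      (∑ i ∈ s, f i ^ e) ^ 2 = ∑ i ∈ s, (f i ^ e) ^ 2 + 2 * ∑ p ∈ P, (f p.1 * f p.2) ^ e := by
  induction s using Finset.induction_on with
  | empty => exact ⟨∅, Finset.empty_subset _, fun e => by simp⟩
  | insert a t hat ih =>
    obtain ⟨P, hP, hsq⟩ := ih
    have hdis : Disjoint P (({a} : Finset ι) ×ˢ t) := by
      rw [Finset.disjoint_left]
      rintro ⟨x, y⟩ h h'
      have hx := (Finset.mem_product.1 (hP h)).1
      rw [Finset.mem_singleton.1 (Finset.mem_product.1 h').1] at hx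
      exact hat hx
    refine ⟨P ∪ ({a} : Finset ι) ×ˢ t, Finset.union_subset
      (hP.trans (Finset.product_subset_product (Finset.subset_insert a t) (Finset.subset_insert a t)))
      (Finset.product_subset_product (by simp) (Finset.subset_insert a t)), fun e => ?_⟩
    rw [Finset.sum_insert hat, Finset.sum_insert hat, Finset.sum_union hdis, Finset.sum_product,
      Finset.sum_singleton, add_sq, hsq e]
    simp only [mul_pow, ← Finset.mul_sum]
    ring

/-- Congruence modulo two for the alternating square. -/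
theorem alt_sq_cong {G : Type u} [Group G] [Finite G] {χ : G → ℂ} (hχ : IsCharacter G χ) (g : G)
    (k : ℕ) : IntCong 2 (((χ g ^ 2 - χ (g ^ 2)) / 2) ^ 2 ^ k)
      ((χ (g ^ 2 ^ k) ^ 2 - χ ((g ^ 2 ^ k) ^ 2)) / 2) := by
  classical
  haveI : NeZero (orderOf g) := ⟨(orderOf_pos g).ne'⟩
  obtain ⟨d, l, hl, hpow⟩ := CfsgLib.Jordan.exists_roots_of_isCharacter hχ (pow_orderOf_eq_one g)
  have hint : ∀ i, IsIntegral ℤ (l i) := fun i =>
    IsIntegral.of_pow (orderOf_pos g) ((hl i).symm ▸ isIntegral_one)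
  obtain ⟨P, -, hP⟩ := exists_pair_finset l Finset.univ
  have hval : ∀ e : ℕ, (χ (g ^ e) ^ 2 - χ ((g ^ e) ^ 2)) / 2 = ∑ p ∈ P, (l p.1 * l p.2) ^ e := by
    intro e
    rw [← pow_mul, hpow, hpow, hP e]
    simp only [← pow_mul]
    ring
  let L : Fin d × Fin d → integralClosure ℤ ℂ := fun p => ⟨l p.1 * l p.2, (hint _).mul (hint _)⟩
  obtain ⟨r, hr⟩ := exists_sum_pow_prime_pow 2 Nat.prime_two k P L
  have h2 := congrArg (fun x : integralClosure ℤ ℂ => (x : ℂ)) hr
  simp only [L, Subalgebra.coe_pow, AddSubmonoidClass.coe_finsetSum, Subalgebra.coe_add,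
    Subalgebra.coe_mul, SubringClass.coe_natCast] at h2
  have h1 := hval 1
  simp only [pow_one] at h1
  exact ⟨r, r.2, by rw [h1, hval, h2]; ring⟩

theorem intCong_int_dvd {q : ℕ} (hq : q ≠ 0) {a b : ℤ} (h : IntCong q (a : ℂ) (b : ℂ)) :
    (q : ℤ) ∣ a - b := by
  obtain ⟨z, hz, he⟩ := h
  have hq' : (q : ℂ) ≠ 0 := Nat.cast_ne_zero.mpr hq
  have hzq : ((((a - b : ℤ) : ℚ) / (q : ℚ) : ℚ) : ℂ) = z := by
    push_cast
    rw [he, mul_div_cancel_left₀ _ hq']
  obtain ⟨w, hw⟩ := CfsgLib.CharTheory.exists_int_of_isIntegral_ratCast (hzq ▸ hz)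
  rw [eq_div_iff (Nat.cast_ne_zero.mpr hq)] at hw
  exact ⟨w, by rw [mul_comm]; exact_mod_cast hw.symm⟩

/-- The part at the prime `q` of an element. -/
theorem exists_split {S : Type u} [CommGroup S] [Finite S] (w : S) {q : ℕ} (hq : q.Prime)
    (hqw : q ∣ orderOf w) :
    ∃ (wq w' : S) (a m : ℕ), w = wq * w' ∧ wq ^ q ^ a = 1 ∧ w' ^ m = 1 ∧ ¬ q ∣ m ∧
      m ∣ orderOf w ∧ orderOf w' < orderOf w ∧ w' ∈ Subgroup.zpowers w := by
  obtain ⟨a, m, hm, hn⟩ := Nat.exists_eq_pow_mul_and_not_dvd (orderOf_pos w).ne' q hq.ne_one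
  have hcop : (q ^ a).Coprime m := (hq.coprime_iff_not_dvd.2 hm).pow_left a
  obtain ⟨e, he1, he2⟩ := Nat.chineseRemainder hcop 1 0
  refine ⟨w ^ e, w * (w ^ e)⁻¹, a, m, by rw [mul_comm w, mul_inv_cancel_left], ?_, ?_, hm,
    Dvd.intro_left _ hn.symm, ?_, ?_⟩
  · rw [← pow_mul]
    refine orderOf_dvd_iff_pow_eq_one.1 ?_
    rw [hn, mul_comm e]
    exact Nat.mul_dvd_mul_left _ (Nat.modEq_zero_iff_dvd.1 he2)
  · rw [mul_pow, inv_pow, ← pow_mul, mul_inv_eq_one, pow_eq_pow_iff_modEq, hn]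
    simpa using (he1.symm.mul_right' m)
  rotate_left
  · exact Subgroup.mul_mem _ (Subgroup.mem_zpowers w)
      (Subgroup.inv_mem _ (Subgroup.pow_mem _ (Subgroup.mem_zpowers w) e))
  all_goals
    have hpow : (w * (w ^ e)⁻¹) ^ m = 1 := by
      rw [mul_pow, inv_pow, ← pow_mul, mul_inv_eq_one, pow_eq_pow_iff_modEq, hn]
      simpa using (he1.symm.mul_right' m)
    have hdvd := orderOf_dvd_of_pow_eq_one hpow
  · refine lt_of_le_of_lt (Nat.le_of_dvd (Nat.pos_of_ne_zero fun h => hm (by simp [h])) hdvd) ?_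
    have ha : a ≠ 0 := fun h => hm (by rwa [hn, h, pow_zero, one_mul] at hqw)
    rw [hn]
    exact lt_mul_left (Nat.pos_of_ne_zero fun h => hm (by simp [h]))
      (Nat.one_lt_pow ha hq.one_lt)

/-- Propagation from a generator `z` along elements of prime power order. -/
theorem chain {S : Type u} [CommGroup S] [Finite S] (z : S) (P : S → Prop) (hz : P z)
    (hstep : ∀ (q : ℕ), q.Prime → ∀ (k : ℕ) (x y : S), x ∈ Subgroup.zpowers z →
      y ∈ Subgroup.zpowers z → x ≠ 1 → y ≠ 1 → (y⁻¹ * x) ^ q ^ k = 1 → P y → P x)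
    {x : S} (hx : x ∈ Subgroup.zpowers z) (hx1 : x ≠ 1) : P x := by
  suffices ∀ n : ℕ, ∀ w ∈ Subgroup.zpowers z, orderOf w = n → z * w ≠ 1 → P (z * w) by
    have := this _ (z⁻¹ * x) (Subgroup.mul_mem _
      (Subgroup.inv_mem _ (Subgroup.mem_zpowers z)) hx) rfl (by rwa [mul_inv_cancel_left])
    rwa [mul_inv_cancel_left] at this
  intro n
  induction n using Nat.strong_induction_on with
  | _ n ih =>
    intro w hwT hn hne
    by_cases hw : orderOf w = 1
    · rw [orderOf_eq_one_iff.1 hw, mul_one]; exact hz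
    obtain ⟨q, hq, hqw⟩ := Nat.exists_prime_and_dvd hw
    obtain ⟨wq, w', a, m, hsplit, hwq, hw', hm, hmd, hlt, hdvd⟩ := exists_split w hq hqw
    have hw'T : w' ∈ Subgroup.zpowers z := Subgroup.zpowers_le.2 hwT hdvd
    have hy : z * w' ≠ 1 := by
      intro h1
      have hzm : z ^ m = 1 := by
        have := congrArg (· ^ m) h1
        simpa [mul_pow, hw'] using this
      have h2 : orderOf w ∣ orderOf z := by
        obtain ⟨i, rfl⟩ := Subgroup.mem_zpowers_iff.1 hwT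
        exact orderOf_dvd_of_pow_eq_one (by
          rw [← zpow_natCast, ← zpow_mul, mul_comm, zpow_mul, zpow_natCast, pow_orderOf_eq_one,
            one_zpow])
      exact hm (hqw.trans (h2.trans (orderOf_dvd_of_pow_eq_one hzm)))
    refine hstep q hq a (z * w) (z * w') (Subgroup.mul_mem _ (Subgroup.mem_zpowers z) hwT)
      (Subgroup.mul_mem _ (Subgroup.mem_zpowers z) hw'T) hne hy ?_
      (ih _ (hn ▸ hlt) w' hw'T rfl hy)
    rw [show (z * w')⁻¹ * (z * w) = wq by rw [inv_mul_eq_iff_eq_mul, hsplit]; ac_rfl]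
    exact hwq

variable {S : Type u} [CommGroup S] [Finite S] {f : S → ℂ} {v : S → ℤ}

/-- Two values at elements differing by an element of `q`-power order vanish together, and agree
when `q` is odd. -/
theorem value_step (hf : IsCharacter S f) (hv : ∀ x : S, x ≠ 1 → f x = v x)
    (hv1 : ∀ x : S, x ≠ 1 → v x = 0 ∨ v x = 1 ∨ v x = -1) {q : ℕ} (hq : q.Prime) {k : ℕ} {x y : S}
    (hx : x ≠ 1) (hy : y ≠ 1) (hxy : (y⁻¹ * x) ^ q ^ k = 1) :
    (v x = 0 ↔ v y = 0) ∧ (q ≠ 2 → v x = v y) := by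
  have e : x ^ q ^ k = y ^ q ^ k := by
    rw [mul_pow, inv_pow, inv_mul_eq_one] at hxy
    exact hxy.symm
  have h1 := apply_pow_prime_pow_cong hf x hq k
  have h2 := apply_pow_prime_pow_cong hf y hq k
  rw [e] at h1
  have h3 := h1.trans h2.symm
  rw [hv x hx, hv y hy, ← Int.cast_pow, ← Int.cast_pow] at h3
  have h4 := intCong_int_dvd hq.ne_zero h3
  have h0 : q ^ k ≠ 0 := pow_ne_zero _ hq.ne_zero
  have hnd : ¬ (q : ℤ) ∣ 1 := by
    intro h
    exact hq.not_dvd_one (by exact_mod_cast h)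
  have hpm : ∀ a : ℤ, (a = 1 ∨ a = -1) → a ^ q ^ k = 1 ∨ a ^ q ^ k = -1 := fun a ha => by
    rcases ha with rfl | rfl
    · exact Or.inl (one_pow _)
    · exact neg_one_pow_eq_or ℤ _
  constructor
  · constructor
    · intro ha
      rcases hv1 y hy with hb | hb
      · exact hb
      · rw [ha, zero_pow h0] at h4
        rcases hpm _ hb with e | e <;> rw [e] at h4 <;> simp [dvd_neg] at h4 <;> exact absurd h4 hnd
    · intro hb
      rcases hv1 x hx with ha | ha
      · exact ha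
      · rw [hb, zero_pow h0] at h4
        rcases hpm _ ha with e | e <;> rw [e] at h4 <;> simp [dvd_neg] at h4 <;> exact absurd h4 hnd
  · intro hq2
    have hodd : Odd (q ^ k) := (hq.odd_of_ne_two hq2).pow
    have hpw : ∀ a : ℤ, (a = 0 ∨ a = 1 ∨ a = -1) → a ^ q ^ k = a := by
      rintro a (rfl | rfl | rfl)
      · exact zero_pow h0
      · exact one_pow _
      · exact hodd.neg_one_pow
    rw [hpw _ (hv1 x hx), hpw _ (hv1 y hy)] at h4
    have h2q : (3 : ℤ) ≤ q := by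
      have := hq.two_le
      omega
    by_contra hne
    have h5 : (v x - v y).natAbs ≠ 0 := by omega
    have h6 := Nat.le_of_dvd (Nat.pos_of_ne_zero h5) (Int.natCast_dvd.1 h4)
    have h7 : (v x - v y).natAbs ≤ 2 := by
      rcases hv1 x hx with a | a | a <;> rcases hv1 y hy with b | b | b <;> rw [a, b] <;> simp
    omega

/-- The zero set on the non-identity elements is empty or everything. -/
theorem eq_zero_iff (hf : IsCharacter S f) (hv : ∀ x : S, x ≠ 1 → f x = v x)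
    (hv1 : ∀ x : S, x ≠ 1 → v x = 0 ∨ v x = 1 ∨ v x = -1) {s : S}
    (hs : Subgroup.zpowers s = ⊤) {x : S} (hx : x ≠ 1) : v x = 0 ↔ v s = 0 := by
  refine chain s (fun x => v x = 0 ↔ v s = 0) Iff.rfl ?_ (hs ▸ Subgroup.mem_top x) hx
  exact fun q hq k a b _ _ ha hb hab h => ((value_step hf hv hv1 hq ha hb hab).1).trans h

/-- Squares differing by an element of `2`-power order have the same sign. -/
theorem square_step (hf : IsCharacter S f) (hv : ∀ x : S, x ≠ 1 → f x = v x)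
    (hv1 : ∀ x : S, x ≠ 1 → v x = 1 ∨ v x = -1) {k : ℕ} {z w : S}
    (hx : z ^ 2 ≠ 1) (hy : w ^ 2 ≠ 1) (hzw : ((w ^ 2)⁻¹ * z ^ 2) ^ 2 ^ k = 1) :
    v (z ^ 2) = v (w ^ 2) := by
  have e : z ^ 2 ^ (k + 1) = w ^ 2 ^ (k + 1) := by
    rw [mul_pow, inv_pow, inv_mul_eq_one, ← pow_mul, ← pow_mul, ← pow_succ'] at hzw
    exact hzw.symm
  have hz1 : z ≠ 1 := fun h => hx (by rw [h, one_pow])
  have hw1 : w ≠ 1 := fun h => hy (by rw [h, one_pow])
  have hr : ∀ u : S, u ≠ 1 → u ^ 2 ≠ 1 →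
      ∃ r : ℤ, (f u ^ 2 - f (u ^ 2)) / 2 = r ∧ (r = 0 ∨ r = 1) ∧ 2 * r = 1 - v (u ^ 2) := by
    intro u hu hu2
    have h1 : (v u : ℂ) ^ 2 = 1 := by rcases hv1 u hu with e | e <;> simp [e]
    rcases hv1 _ hu2 with e | e
    · exact ⟨0, by rw [hv _ hu, hv _ hu2, h1, e]; norm_num, Or.inl rfl, by rw [e]; norm_num⟩
    · exact ⟨1, by rw [hv _ hu, hv _ hu2, h1, e]; norm_num, Or.inr rfl, by rw [e]; norm_num⟩
  obtain ⟨a, ha, ha', ha2⟩ := hr z hz1 hx
  obtain ⟨b, hb, hb', hb2⟩ := hr w hw1 hy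
  have h1 := alt_sq_cong hf z (k + 1)
  have h2 := alt_sq_cong hf w (k + 1)
  rw [e] at h1
  have h3 := h1.trans h2.symm
  rw [ha, hb, ← Int.cast_pow, ← Int.cast_pow] at h3
  have h4 := intCong_int_dvd two_ne_zero h3
  have h0 : 2 ^ (k + 1) ≠ 0 := pow_ne_zero _ two_ne_zero
  rcases ha' with rfl | rfl <;> rcases hb' with rfl | rfl <;>
    simp [zero_pow h0] at h4 <;> omega

/-- Elements outside the squares have the sign of the generators. -/
theorem nonsquare_sign (hf : IsCharacter S f) (hv : ∀ x : S, x ≠ 1 → f x = v x)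
    (hv1 : ∀ x : S, x ≠ 1 → v x = 0 ∨ v x = 1 ∨ v x = -1) {s : S}
    (hs : Subgroup.zpowers s = ⊤) (hgen : ∀ y : S, Subgroup.zpowers y = ⊤ → v y = v s) {x : S}
    (hx : x ∉ Subgroup.zpowers (s ^ 2)) : v x = v s := by
  set T := Subgroup.zpowers (s ^ 2) with hT
  have hTsq : ∀ y : S, y ∈ T ↔ ∃ i : ℤ, y = s ^ (2 * i) := fun y => by
    rw [hT, Subgroup.mem_zpowers_iff]
    exact ⟨fun ⟨i, hi⟩ => ⟨i, by rw [← hi, zpow_mul, zpow_two, pow_two]⟩,
      fun ⟨i, hi⟩ => ⟨i, by rw [hi, zpow_mul, zpow_two, pow_two]⟩⟩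
  have hoddT : ∀ (w : S) (m : ℕ), ¬ 2 ∣ m → w ^ m = 1 → w ∈ T := by
    intro w m hm hw
    obtain ⟨i, hi⟩ := Subgroup.mem_zpowers_iff.1 (hs ▸ Subgroup.mem_top w)
    obtain ⟨j, hj⟩ : Odd (m : ℤ) := by
      rw [Int.odd_iff]
      omega
    refine (hTsq w).2 ⟨-(i * j), ?_⟩
    have h1 : w ^ (m : ℤ) = 1 := by rw [zpow_natCast]; exact hw
    rw [hj, zpow_add, zpow_one, ← eq_inv_iff_mul_eq_one] at h1
    rw [← inv_inv w, ← h1, ← hi, ← zpow_mul, ← zpow_neg]
    ring_nf
  -- multiplication by elements of odd order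
  have hodd : ∀ (n : ℕ) (w : S), orderOf w = n → ¬ 2 ∣ n → v (x * w) = v x := by
    intro n
    induction n using Nat.strong_induction_on with
    | _ n ih =>
      intro w hn h2
      by_cases hw : orderOf w = 1
      · rw [orderOf_eq_one_iff.1 hw, mul_one]
      obtain ⟨q, hq, hqw⟩ := Nat.exists_prime_and_dvd hw
      obtain ⟨wq, w', a, m, hsplit, hwq, hw', hm, hmd, hlt, hmem⟩ := exists_split w hq hqw
      have hodd' : ¬ 2 ∣ orderOf w' := fun h => h2 (hn ▸ h.trans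
        ((orderOf_dvd_of_pow_eq_one hw').trans hmd))
      have hne : ∀ t : S, (∃ M : ℕ, ¬ 2 ∣ M ∧ t ^ M = 1) → x * t ≠ 1 := by
        rintro t ⟨M, hM, ht⟩ h
        refine hx ?_
        rw [eq_inv_of_mul_eq_one_left h]
        exact T.inv_mem (hoddT t M hM ht)
      rw [(value_step hf hv hv1 hq (x := x * w) (y := x * w') (k := a)
        (hne w ⟨orderOf w, hn ▸ h2, pow_orderOf_eq_one w⟩)
        (hne w' ⟨orderOf w', hodd', pow_orderOf_eq_one w'⟩)
        (by rw [show (x * w')⁻¹ * (x * w) = wq by rw [inv_mul_eq_iff_eq_mul, hsplit]; ac_rfl]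
            exact hwq)).2 ?_]
      · exact ih _ (hn ▸ hlt) w' rfl hodd'
      · rintro rfl
        exact h2 (hn ▸ hqw)
  -- a generator differing from `x` by an element of odd order
  obtain ⟨i, hi⟩ := Subgroup.mem_zpowers_iff.1 (hs ▸ Subgroup.mem_top x)
  have hiodd : Odd i := by
    by_contra h
    obtain ⟨j, rfl⟩ := Int.not_odd_iff_even.1 h
    exact hx ((hTsq x).2 ⟨j, by rw [← hi, two_mul]⟩)
  obtain ⟨a, m, hm, hn⟩ := Nat.exists_eq_pow_mul_and_not_dvd (orderOf_pos s).ne' 2 (by norm_num)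
  have hcop : (2 ^ a).Coprime m := (Nat.prime_two.coprime_iff_not_dvd.2 hm).pow_left a
  obtain ⟨e, he1, he2⟩ := Nat.chineseRemainder hcop 1 0
  set w : S := s ^ ((1 - i) * (1 - (e : ℤ))) with hw
  have hwm : w ^ m = 1 := by
    obtain ⟨c, hc⟩ : ((2 ^ a : ℕ) : ℤ) ∣ 1 - (e : ℤ) := Nat.modEq_iff_dvd.1 he1
    rw [hw, ← zpow_natCast, ← zpow_mul, hc, show (1 - i) * (((2 ^ a : ℕ) : ℤ) * c) * (m : ℤ)
      = ((2 ^ a * m : ℕ) : ℤ) * ((1 - i) * c) by push_cast; ring, zpow_mul, zpow_natCast, ← hn,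
      pow_orderOf_eq_one, one_zpow]
  have hwodd : ¬ 2 ∣ orderOf w := fun h => hm (h.trans (orderOf_dvd_of_pow_eq_one hwm))
  rw [← hodd _ w rfl hwodd]
  refine hgen _ (eq_top_iff.2 (hs ▸ Subgroup.zpowers_le.2 ?_))
  set j : ℤ := i + (1 - i) * (1 - (e : ℤ)) with hj
  have hxw : x * w = s ^ j := by rw [hj, zpow_add, hi]
  obtain ⟨A, B, hAB⟩ : IsCoprime j ((orderOf s : ℕ) : ℤ) := by
    rw [hn, Nat.cast_mul, IsCoprime.mul_right_iff]
    constructor
    · obtain ⟨c, hc⟩ := hiodd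
      rw [Nat.cast_pow]
      refine IsCoprime.pow_right ?_
      obtain ⟨t, ht⟩ : (2 : ℤ) ∣ (1 - i) * (1 - (e : ℤ)) := Dvd.dvd.mul_right ⟨-c, by omega⟩ _
      exact ⟨1, -(c + t), by rw [hj, ht, hc]; push_cast; ring⟩
    · obtain ⟨t, ht⟩ : (m : ℤ) ∣ (e : ℤ) := by exact_mod_cast Nat.modEq_zero_iff_dvd.1 he2
      exact ⟨1, (1 - i) * t, by rw [hj, ht]; ring⟩
  refine Subgroup.mem_zpowers_iff.2 ⟨A, ?_⟩
  rw [hxw, ← zpow_mul, show j * A = 1 - B * ((orderOf s : ℕ) : ℤ) by rw [← hAB]; ring, zpow_sub,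
    zpow_one, mul_comm B, zpow_mul, zpow_natCast, pow_orderOf_eq_one, one_zpow, inv_one, mul_one]

/-- Squares other than the identity have one sign. -/
theorem square_sign (hf : IsCharacter S f) (hv : ∀ x : S, x ≠ 1 → f x = v x)
    (hv1 : ∀ x : S, x ≠ 1 → v x = 1 ∨ v x = -1) (s : S) {x : S}
    (hx : x ∈ Subgroup.zpowers (s ^ 2)) (hx1 : x ≠ 1) : v x = v (s ^ 2) := by
  refine chain (s ^ 2) (fun x => v x = v (s ^ 2)) rfl ?_ hx hx1
  intro q hq k a b haT hbT ha hb hab h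
  by_cases hq2 : q = 2
  · subst hq2
    obtain ⟨i, hi⟩ := Subgroup.mem_zpowers_iff.1 haT
    obtain ⟨j, hj⟩ := Subgroup.mem_zpowers_iff.1 hbT
    have e1 : (s ^ i) ^ 2 = a := by
      rw [← hi, ← zpow_natCast, ← zpow_natCast, ← zpow_mul, ← zpow_mul, mul_comm]
    have e2 : (s ^ j) ^ 2 = b := by
      rw [← hj, ← zpow_natCast, ← zpow_natCast, ← zpow_mul, ← zpow_mul, mul_comm]
    rw [← e1, ← e2] at hab
    have := square_step hf hv hv1 (k := k) (e1.symm ▸ ha) (e2.symm ▸ hb) hab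
    rw [e1, e2] at this
    exact this.trans h
  · exact ((value_step hf hv (fun x hx => Or.inr (hv1 x hx)) hq ha hb hab).2 hq2).trans h

/-- A character with values `±1` away from the identity and the same value at all generators is a
sign times a linear character of order at most two there. -/
theorem exists_sign_linear (hf : IsCharacter S f) (hv : ∀ x : S, x ≠ 1 → f x = v x)
    (hv1 : ∀ x : S, x ≠ 1 → v x = 1 ∨ v x = -1) {s : S}
    (hs : Subgroup.zpowers s = ⊤) (hs1 : s ≠ 1)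
    (hgen : ∀ y : S, Subgroup.zpowers y = ⊤ → v y = v s) :
    ∃ (ε : ℤ) (μ : S →* ℂˣ), (ε = 1 ∨ ε = -1) ∧ (∀ x, μ x * μ x = 1) ∧
      ∀ x : S, x ≠ 1 → (v x : ℂ) = (ε : ℂ) * (μ x : ℂ) := by
  classical
  set T := Subgroup.zpowers (s ^ 2) with hT
  have hv01 : ∀ x : S, x ≠ 1 → v x = 0 ∨ v x = 1 ∨ v x = -1 := fun x hx => Or.inr (hv1 x hx)
  by_cases hsT : s ∈ T
  · have hTtop : T = ⊤ := eq_top_iff.2 (hs ▸ Subgroup.zpowers_le.2 hsT)
    refine ⟨v s, 1, hv1 s hs1, fun x => one_mul 1, fun x hx => ?_⟩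
    rw [MonoidHom.one_apply, Units.val_one, mul_one, square_sign hf hv hv1 s
      (hTtop ▸ Subgroup.mem_top x : x ∈ T) hx, ← square_sign hf hv hv1 s hsT hs1]
  · have hpar : ∀ x : S, x ∉ T → x * s ∈ T := by
      intro x hx
      obtain ⟨i, hi⟩ := Subgroup.mem_zpowers_iff.1 (hs ▸ Subgroup.mem_top x)
      rcases Int.even_or_odd' i with ⟨j, rfl | rfl⟩
      · exact absurd (Subgroup.mem_zpowers_iff.2 ⟨j, by rw [← hi, zpow_mul, zpow_two, pow_two]⟩) hx
      · refine Subgroup.mem_zpowers_iff.2 ⟨j + 1, ?_⟩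
        rw [← hi, zpow_add_one s (2 * j), mul_assoc, ← pow_two, zpow_add_one (s ^ 2) j,
          zpow_mul, zpow_two, ← pow_two]
    have hmul : ∀ x y : S, x ∉ T → y ∉ T → x * y ∈ T := by
      intro x y hx hy
      have h1 := T.mul_mem (hpar x hx) (hpar y hy)
      rw [show x * s * (y * s) = x * y * (s ^ 2) by rw [pow_two]; ac_rfl] at h1
      exact (T.mul_mem_cancel_right (Subgroup.mem_zpowers _)).1 h1
    let μ : S →* ℂˣ :=
      { toFun := fun x => if x ∈ T then 1 else -1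
        map_one' := if_pos T.one_mem
        map_mul' := fun x y => by
          by_cases hx : x ∈ T <;> by_cases hy : y ∈ T
          · simp [hx, hy, T.mul_mem hx hy]
          · simp [hx, hy, T.mul_mem_cancel_left hx]
          · simp [hx, hy, T.mul_mem_cancel_right hy]
          · simp [hx, hy, hmul x y hx hy] }
    have hμ2 : ∀ x, μ x * μ x = 1 := fun x => by
      show (if x ∈ T then (1 : ℂˣ) else -1) * (if x ∈ T then (1 : ℂˣ) else -1) = 1
      split_ifs <;> simp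
    by_cases hs2 : s ^ 2 = 1
    · refine ⟨v s, 1, hv1 s hs1, fun x => one_mul 1, fun x hx => ?_⟩
      rw [MonoidHom.one_apply, Units.val_one, mul_one, nonsquare_sign hf hv hv01 hs hgen]
      intro h
      rw [← hT] at h
      rw [hT, hs2, Subgroup.zpowers_one_eq_bot, Subgroup.mem_bot] at h
      exact hx h
    · by_cases heq : v s = v (s ^ 2)
      · refine ⟨v s, 1, hv1 s hs1, fun x => one_mul 1, fun x hx => ?_⟩
        rw [MonoidHom.one_apply, Units.val_one, mul_one]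
        by_cases h : x ∈ T
        · rw [square_sign hf hv hv1 s h hx, heq]
        · rw [nonsquare_sign hf hv hv01 hs hgen h]
      · refine ⟨v (s ^ 2), μ, hv1 _ hs2, hμ2, fun x hx => ?_⟩
        show (v x : ℂ) = (v (s ^ 2) : ℂ) * (((if x ∈ T then 1 else -1) : ℂˣ) : ℂ)
        by_cases h : x ∈ T
        · rw [if_pos h, square_sign hf hv hv1 s h hx, Units.val_one, mul_one]
        · rw [if_neg h, nonsquare_sign hf hv hv01 hs hgen h, Units.val_neg, Units.val_one]
          rcases hv1 s hs1 with e | e <;> rcases hv1 _ hs2 with e' | e' <;>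
            first
              | exact absurd (e.trans e'.symm) heq
              | (rw [e, e']; norm_num)

end CfsgLib.Clifford
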