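import Cfsg.Agent.Lib.CharTheory.Ito
import Cfsg.Agent.Lib.Frobenius.Induce
import Cfsg.Agent.Lib.RealChar.DegreeRatio
import Cfsg.Agent.Lib.CyclicTI.IndNormal
import Cfsg.Agent.Lib.ZerosCodegree.CharBasics
import Cfsg.Agent.Lib.CharDegreesTheory.IntCong
import Cfsg.Agent.Lib.Correspondences.CharKer
import Cfsg.Agent.Lib.CharDegreesTheory.BlockDegrees
import Cfsg.Agent.S4888

/-!
# The sum of the squares of the degrees prime to `p`

For a subgroup `H` of index prime to `p`, the sum for `G` is at least the sum for `H`.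
-/

set_option autoImplicit false
set_option linter.unusedSectionVars false
set_option linter.style.haveILetI false

open scoped ComplexConjugate
open Cfsg CfsgLib.CharTheory

namespace CfsgLib.Clifford.PPrimeSquares

universe u

variable {G : Type u} [Group G] [Finite G] (p : ℕ) [Fact p.Prime]

open scoped Classical in
/-- The sum of the squares of the degrees prime to `p`. -/
noncomputable def pSum (G : Type u) [Group G] [Finite G] : ℕ :=
  ∑ᶠ χ : {χ : IrrCharacter G // ¬ p ∣ charDegree (χ : G → ℂ)}, charDegree (χ.1 : G → ℂ) ^ 2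

theorem pSum_eq [Fintype (IrrCharacter G)] [DecidablePred fun χ : IrrCharacter G =>
    ¬ p ∣ charDegree (χ : G → ℂ)] :
    pSum p G = ∑ χ ∈ Finset.univ.filter (fun χ : IrrCharacter G => ¬ p ∣ charDegree (χ : G → ℂ)),
      charDegree (χ : G → ℂ) ^ 2 := by
  rw [pSum, finsum_eq_sum_of_fintype]
  exact (Finset.sum_subtype (p := fun χ : IrrCharacter G => ¬ p ∣ charDegree (χ : G → ℂ)) _
    (fun χ => by simp) (fun χ : IrrCharacter G => charDegree (χ : G → ℂ) ^ 2)).symm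

theorem deg_cast (χ : IrrCharacter G) : (χ : G → ℂ) 1 = (charDegree (χ : G → ℂ) : ℂ) :=
  CfsgLib.ZerosCodegree.irr_apply_one_eq χ

/-- Multiplicities of the restriction. -/
theorem exists_mult (H : Subgroup G) [Fintype H] : ∃ m : IrrCharacter G → IrrCharacter H → ℕ,
    ∀ (χ : IrrCharacter G) (ψ : IrrCharacter H),
      classInner (fun h : H => (χ : G → ℂ) h) (ψ : H → ℂ) = m χ ψ := by
  have : ∀ (χ : IrrCharacter G) (ψ : IrrCharacter H), ∃ k : ℕ,
      classInner (fun h : H => (χ : G → ℂ) h) (ψ : H → ℂ) = k := fun χ ψ =>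
    IsCharacter.exists_classInner_eq_nat
      (CfsgLib.Coherence.isCharacter_comp (IsIrrCharacter.isCharacter χ.2) H.subtype) ψ
  choose m hm using this
  exact ⟨m, hm⟩

variable (H : Subgroup G) [Fintype H] [Fintype (IrrCharacter G)] [Fintype (IrrCharacter H)]
  (m : IrrCharacter G → IrrCharacter H → ℕ)
  (hm : ∀ (χ : IrrCharacter G) (ψ : IrrCharacter H),
    classInner (fun h : H => (χ : G → ℂ) h) (ψ : H → ℂ) = m χ ψ)

include hm

theorem res_expand (χ : IrrCharacter G) :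
    (fun h : H => (χ : G → ℂ) h) = ∑ ψ : IrrCharacter H, (m χ ψ : ℂ) • (ψ : H → ℂ) := by
  conv_lhs => rw [eq_sum_classInner (G := H) (f := fun h : H => (χ : G → ℂ) h)
    (fun a b => IsIrrCharacter.isClassFunction χ.2 (a : G) (b : G))]
  exact Finset.sum_congr rfl fun ψ _ => by rw [hm]

theorem deg_eq (χ : IrrCharacter G) :
    charDegree (χ : G → ℂ) = ∑ ψ : IrrCharacter H, m χ ψ * charDegree (ψ : H → ℂ) := by
  have h := congrFun (res_expand H m hm χ) 1
  simp only [Finset.sum_apply, Pi.smul_apply, smul_eq_mul, deg_cast] at h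
  rw [OneMemClass.coe_one, deg_cast] at h
  exact_mod_cast h

theorem ind_deg (ψ : IrrCharacter H) :
    H.index * charDegree (ψ : H → ℂ) = ∑ χ : IrrCharacter G, m χ ψ * charDegree (χ : G → ℂ) := by
  classical
  haveI := Fintype.ofFinite G
  have hexp := congrFun (eq_sum_classInner (f := indFun H (ψ : H → ℂ))
    (CfsgLib.Frobenius.indFun_isClassFunction H _)) 1
  have hc : ∀ χ : IrrCharacter G, classInner (indFun H (ψ : H → ℂ)) (χ : G → ℂ) = (m χ ψ : ℂ) := by
    intro χ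
    rw [CfsgLib.Frobenius.classInner_indFun H _ _ (IsIrrCharacter.isClassFunction χ.2),
      CfsgLib.Frobenius.classInner_comm (fun h : H => (χ : G → ℂ) h), hm, map_natCast]
  simp only [Finset.sum_apply, Pi.smul_apply, smul_eq_mul, hc, deg_cast] at hexp
  rw [CfsgLib.Frobenius.indFun_one, deg_cast] at hexp
  exact_mod_cast hexp

omit hm in
theorem sq_bound {ι : Type*} [Fintype ι] (a : ι → ℕ) (s : Finset ι) :
    ∑ i ∈ s, a i ^ 2 ≤ (∑ i, a i) ^ 2 ∧
      (∑ i ∈ s, a i ^ 2 = (∑ i, a i) ^ 2 → ∀ i, a i ≠ 0 → i ∈ s ∧ a i = ∑ j, a j) := by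
  classical
  have hle : ∀ i, a i ≤ ∑ j, a j := fun i => Finset.single_le_sum (fun j _ => Nat.zero_le _)
    (Finset.mem_univ i)
  have hS : (∑ i, a i) ^ 2 = ∑ i, a i * (∑ j, a j) := by rw [sq, Finset.sum_mul]
  have h1 : ∑ i ∈ s, a i ^ 2 = ∑ i, (if i ∈ s then a i ^ 2 else 0) := by
    rw [Finset.sum_ite_mem, Finset.univ_inter]
  have hpt : ∀ i, (if i ∈ s then a i ^ 2 else 0) ≤ a i * (∑ j, a j) := fun i => by
    split_ifs
    · rw [sq]; exact Nat.mul_le_mul_left _ (hle i)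
    · exact Nat.zero_le _
  refine ⟨by rw [h1, hS]; exact Finset.sum_le_sum fun i _ => hpt i, fun h i hi => ?_⟩
  rw [h1, hS] at h
  have := (Finset.sum_eq_sum_iff_of_le fun i _ => hpt i).1 h i (Finset.mem_univ i)
  split_ifs at this with his
  · rw [sq] at this
    exact ⟨his, Nat.eq_of_mul_eq_mul_left (Nat.pos_of_ne_zero hi) this⟩
  · exfalso
    have : a i * a i ≤ 0 := this.symm ▸ Nat.mul_le_mul_left _ (hle i)
    exact hi (by simpa using this)

omit hm in
omit [Fintype H] [Fintype (IrrCharacter G)] [Fintype (IrrCharacter H)] in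
/-- The inequality and its case of equality. -/
theorem pSum_le (hidx : ¬ p ∣ H.index) :
    pSum p H ≤ pSum p G ∧ (pSum p H = pSum p G → ∀ χ : IrrCharacter G,
      ¬ p ∣ charDegree (χ : G → ℂ) → ∃ ψ : IrrCharacter H, ¬ p ∣ charDegree (ψ : H → ℂ) ∧
        ∀ h : H, (χ : G → ℂ) h = (ψ : H → ℂ) h) := by
  classical
  have hp : p.Prime := Fact.out
  haveI := Fintype.ofFinite H
  haveI := Fintype.ofFinite (IrrCharacter G)
  haveI := Fintype.ofFinite (IrrCharacter H)
  obtain ⟨m, hm⟩ := exists_mult H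
  rw [pSum_eq, pSum_eq]
  set T := Finset.univ.filter (fun ψ : IrrCharacter H => ¬ p ∣ charDegree (ψ : H → ℂ)) with hT
  set U := Finset.univ.filter (fun χ : IrrCharacter G => ¬ p ∣ charDegree (χ : G → ℂ)) with hU
  have hex : ∀ ψ ∈ T, ∃ χ ∈ U, m χ ψ ≠ 0 := by
    intro ψ hψ
    by_contra hc
    push Not at hc
    refine (Nat.Prime.not_dvd_mul hp hidx (Finset.mem_filter.1 hψ).2) ?_
    rw [ind_deg H m hm ψ]
    refine Finset.dvd_sum fun χ _ => ?_
    by_cases hχ : χ ∈ U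
    · rw [hc χ hχ, zero_mul]; exact dvd_zero p
    · exact dvd_mul_of_dvd_right (by simpa [hU] using hχ) _
  set B : IrrCharacter G → ℕ := fun χ =>
    ∑ ψ ∈ T.filter (fun ψ => m χ ψ ≠ 0), charDegree (ψ : H → ℂ) ^ 2 with hB
  have hsq : ∀ χ, B χ ≤ charDegree (χ : G → ℂ) ^ 2 := fun χ => by
    refine le_trans (Finset.sum_le_sum fun ψ hψ => ?_) ((deg_eq H m hm χ).symm ▸ (sq_bound
      (fun ψ : IrrCharacter H => m χ ψ * charDegree (ψ : H → ℂ)) (T.filter fun ψ => m χ ψ ≠ 0)).1)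
    exact Nat.pow_le_pow_left (Nat.le_mul_of_pos_left _
      (Nat.pos_of_ne_zero (Finset.mem_filter.1 hψ).2)) 2
  have h1 : ∑ ψ ∈ T, charDegree (ψ : H → ℂ) ^ 2 ≤ ∑ χ ∈ U, B χ := by
    calc ∑ ψ ∈ T, charDegree (ψ : H → ℂ) ^ 2
        ≤ ∑ ψ ∈ T, ∑ χ ∈ U, (if m χ ψ ≠ 0 then charDegree (ψ : H → ℂ) ^ 2 else 0) := by
          refine Finset.sum_le_sum fun ψ hψ => ?_
          obtain ⟨χ, hχ, hne⟩ := hex ψ hψ
          exact le_trans (le_of_eq (by rw [if_pos hne]))
            (Finset.single_le_sum (f := fun χ => if m χ ψ ≠ 0 then charDegree (ψ : H → ℂ) ^ 2 else 0)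
              (fun _ _ => Nat.zero_le _) hχ)
      _ = ∑ χ ∈ U, B χ := by rw [Finset.sum_comm]; simp only [hB, Finset.sum_filter]
  refine ⟨h1.trans (Finset.sum_le_sum fun χ _ => hsq χ), fun he χ hχ => ?_⟩
  have hBU : ∑ χ ∈ U, B χ = ∑ χ ∈ U, charDegree (χ : G → ℂ) ^ 2 :=
    le_antisymm (Finset.sum_le_sum fun χ _ => hsq χ) (he ▸ h1)
  have hBχ := (Finset.sum_eq_sum_iff_of_le fun χ _ => hsq χ).1 hBU χ
    (Finset.mem_filter.2 ⟨Finset.mem_univ _, hχ⟩)
  set a : IrrCharacter H → ℕ := fun ψ => m χ ψ * charDegree (ψ : H → ℂ) with ha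
  have hd : ∑ ψ, a ψ = charDegree (χ : G → ℂ) := (deg_eq H m hm χ).symm
  have hmid : B χ ≤ ∑ ψ ∈ T.filter (fun ψ => m χ ψ ≠ 0), a ψ ^ 2 :=
    Finset.sum_le_sum fun ψ hψ => Nat.pow_le_pow_left
      (Nat.le_mul_of_pos_left _ (Nat.pos_of_ne_zero (Finset.mem_filter.1 hψ).2)) 2
  have heq : ∑ ψ ∈ T.filter (fun ψ => m χ ψ ≠ 0), a ψ ^ 2 = (∑ ψ, a ψ) ^ 2 :=
    le_antisymm (sq_bound a _).1 (by rw [hd, ← hBχ]; exact hmid)
  have hpos : 0 < charDegree (χ : G → ℂ) := CfsgLib.ZerosCodegree.charDegree_pos χ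
  obtain ⟨ψ, hψ⟩ : ∃ ψ, a ψ ≠ 0 := by
    by_contra hc
    push Not at hc
    rw [Finset.sum_eq_zero fun ψ _ => hc ψ] at hd
    omega
  obtain ⟨hψT, haψ⟩ := (sq_bound a _).2 heq ψ hψ
  obtain ⟨hψT, hψm⟩ := Finset.mem_filter.1 hψT
  have huniq : ∀ η, m χ η ≠ 0 → η = ψ := by
    intro η hη
    by_contra hne
    have h2 : a η + a ψ ≤ ∑ j, a j := by
      rw [← Finset.sum_pair hne]
      exact Finset.sum_le_sum_of_subset (Finset.subset_univ _)
    have h3 : 0 < a η := Nat.mul_pos (Nat.pos_of_ne_zero hη) (CfsgLib.ZerosCodegree.charDegree_pos η)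
    omega
  have hB1 : B χ = charDegree (ψ : H → ℂ) ^ 2 := by
    rw [hB]
    refine Finset.sum_eq_single_of_mem ψ (Finset.mem_filter.2 ⟨hψT, hψm⟩) fun η hη hne => ?_
    exact absurd (huniq η (Finset.mem_filter.1 hη).2) hne
  have hdeg : charDegree (ψ : H → ℂ) = charDegree (χ : G → ℂ) :=
    Nat.pow_left_injective two_ne_zero (hB1.symm.trans hBχ)
  have hm1 : m χ ψ = 1 := by
    have : m χ ψ * charDegree (ψ : H → ℂ) = 1 * charDegree (ψ : H → ℂ) := by
      rw [one_mul]; exact haψ.trans (hd.trans hdeg.symm)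
    exact Nat.eq_of_mul_eq_mul_right (CfsgLib.ZerosCodegree.charDegree_pos ψ) this
  refine ⟨ψ, (Finset.mem_filter.1 hψT).2, fun h => ?_⟩
  have := congrFun (res_expand H m hm χ) h
  rw [this, Finset.sum_apply, Finset.sum_eq_single_of_mem ψ (Finset.mem_univ _) fun η _ hne => by
    have : m χ η = 0 := not_not.1 fun h0 => hne (huniq η h0)
    simp [this]]
  simp [hm1]

omit hm in
omit [Fintype H] [Fintype (IrrCharacter G)] [Fintype (IrrCharacter H)] in
/-- For a normal subgroup of index prime to `p` the sums are proportional. -/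
theorem index_mul_pSum [H.Normal] (hidx : ¬ p ∣ H.index) : H.index * pSum p H = pSum p G := by
  classical
  have hp : p.Prime := Fact.out
  haveI := Fintype.ofFinite H
  haveI := Fintype.ofFinite G
  haveI := Fintype.ofFinite (IrrCharacter G)
  haveI := Fintype.ofFinite (IrrCharacter H)
  obtain ⟨m, hm⟩ := exists_mult H
  rw [pSum_eq, pSum_eq, Finset.mul_sum]
  set T := Finset.univ.filter (fun ψ : IrrCharacter H => ¬ p ∣ charDegree (ψ : H → ℂ)) with hT
  set U := Finset.univ.filter (fun χ : IrrCharacter G => ¬ p ∣ charDegree (χ : G → ℂ)) with hU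
  have hiff : ∀ χ ψ, m χ ψ ≠ 0 → (χ ∈ U ↔ ψ ∈ T) := by
    intro χ ψ hne
    obtain ⟨r, hr, hrd⟩ := CfsgLib.RealChar.degree_div_dvd_index (N := H) χ.2 ψ.2
      (by rw [hm]; exact_mod_cast hne)
    rw [deg_cast, deg_cast, ← Nat.cast_mul, Nat.cast_inj] at hrd
    have hrp : ¬ p ∣ r := fun h => hidx (h.trans hr)
    simp only [hT, hU, Finset.mem_filter, Finset.mem_univ, true_and, hrd]
    exact ⟨fun h h' => h (dvd_mul_of_dvd_right h' r), fun h => Nat.Prime.not_dvd_mul hp hrp h⟩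
  calc ∑ ψ ∈ T, H.index * charDegree (ψ : H → ℂ) ^ 2
      = ∑ ψ ∈ T, ∑ χ ∈ U, m χ ψ * charDegree (χ : G → ℂ) * charDegree (ψ : H → ℂ) := by
        refine Finset.sum_congr rfl fun ψ hψ => ?_
        rw [sq, ← mul_assoc, ind_deg H m hm ψ, Finset.sum_mul]
        refine (Finset.sum_subset (Finset.subset_univ U) fun χ _ hχ => ?_).symm
        rw [not_not.1 fun h => hχ ((hiff χ ψ h).2 hψ), zero_mul, zero_mul]
    _ = ∑ χ ∈ U, ∑ ψ ∈ T, m χ ψ * charDegree (χ : G → ℂ) * charDegree (ψ : H → ℂ) := Finset.sum_comm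
    _ = ∑ χ ∈ U, charDegree (χ : G → ℂ) ^ 2 := by
        refine Finset.sum_congr rfl fun χ hχ => ?_
        rw [Finset.sum_subset (Finset.subset_univ T) fun ψ _ hψ => by
          rw [not_not.1 fun h => hψ ((hiff χ ψ h).1 hχ), zero_mul, zero_mul]]
        rw [sq]
        conv_rhs => arg 2; rw [deg_eq H m hm χ]
        rw [Finset.mul_sum]
        exact Finset.sum_congr rfl fun ψ _ => by ring

end CfsgLib.Clifford.PPrimeSquares
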