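import Cfsg.Agent.Lib.Clifford.OddSquares

/-!
# The sum of the squares of the degrees prime to `p` and the Sylow normalizer
-/

set_option autoImplicit false
set_option linter.unusedSectionVars false
set_option linter.style.haveILetI false

open scoped ComplexConjugate commutatorElement
open Cfsg CfsgLib.CharTheory

namespace CfsgLib.Clifford.PPrimeSquares

universe u

variable {G : Type u} [Group G] [Finite G] (p : ℕ) [Fact p.Prime]

theorem card_commutator_congr {A B : Type*} [Group A] [Group B] (e : A ≃* B) :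
    Nat.card (commutator A) = Nat.card (commutator B) := by
  rw [Nat.card_congr (Subgroup.equivMapOfInjective (commutator A) e.toMonoidHom e.injective).toEquiv]
  congr 2
  rw [commutator_def, Subgroup.map_commutator, Subgroup.map_top_of_surjective _ e.surjective]
  rfl

/-- Characters of degree prime to `p` are linear on a normal Sylow subgroup. -/
theorem not_dvd_iff (P : Sylow p G) [hPn : (P : Subgroup G).Normal] (ψ : IrrCharacter G) :
    ¬ p ∣ charDegree (ψ : G → ℂ) ↔
      ∀ d ∈ ⁅(P : Subgroup G), (P : Subgroup G)⁆, (ψ : G → ℂ) d = (ψ : G → ℂ) 1 := by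
  classical
  haveI := Fintype.ofFinite G
  have hp : p.Prime := Fact.out
  constructor
  · intro hdeg d hd
    set R : Subgroup G := (P : Subgroup G) with hR
    haveI := Fintype.ofFinite R
    obtain ⟨μ, hμ⟩ := exists_constituent R (IsIrrCharacter.isCharacter ψ.2)
      (apply_one_ne_zero_of_isIrr ψ.2)
    obtain ⟨k, hk⟩ := IsCharacter.exists_classInner_eq_nat
      (CfsgLib.Coherence.isCharacter_comp (IsIrrCharacter.isCharacter ψ.2) R.subtype) μ
    have hk' : classInner (fun n : R => (ψ : G → ℂ) n) (μ : R → ℂ) = k := hk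
    have h1 := CfsgLib.Clifford.apply_one_eq R ψ.2 μ.2 hμ
    rw [hk', deg_cast, deg_cast, ← Nat.cast_mul, ← Nat.cast_mul, Nat.cast_inj] at h1
    have hμ1 : charDegree (μ : R → ℂ) = 1 := by
      obtain ⟨n, hn⟩ := IsPGroup.iff_card.1 P.2
      obtain ⟨j, -, hj⟩ := (Nat.dvd_prime_pow hp).1
        (hn ▸ CfsgLib.ZerosCodegree.charDegree_dvd_card μ)
      rcases j with _ | j
      · rw [hj, pow_zero]
      · exfalso
        refine hdeg (h1 ▸ Dvd.dvd.mul_left ?_ _)
        rw [hj]; exact dvd_pow_self p (Nat.succ_ne_zero j)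
    obtain ⟨f, hf⟩ := exists_hom_of_degree_one μ.2 (by rw [deg_cast, hμ1, Nat.cast_one])
    rw [← Subgroup.map_subtype_commutator] at hd
    obtain ⟨c, hc, rfl⟩ := hd
    have hres := CfsgLib.Clifford.res_eq R ψ.2 μ.2 hμ
    have e1 := congrFun hres c
    have e2 := congrFun hres 1
    simp only [Pi.smul_apply, Finset.sum_apply, smul_eq_mul, OneMemClass.coe_one] at e1 e2
    show (ψ : G → ℂ) (c : G) = _
    rw [e1, e2]
    congr 1
    refine Finset.sum_congr rfl fun η hη => ?_
    obtain ⟨g, rfl⟩ := (CfsgLib.Clifford.mem_conjOrbit R).1 hη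
    rw [CfsgLib.Clifford.conjChar_apply_one, CfsgLib.Clifford.conjChar_eq_comp]
    simp only [hf, map_one]
    have hker : commutator R ≤ f.ker := Abelianization.commutator_subset_ker f
    have hmem : ∀ φ : R ≃* R, φ c ∈ commutator R := fun φ => by
      have := Subgroup.mem_map_of_mem φ.toMonoidHom hc
      rwa [commutator_def, Subgroup.map_commutator, Subgroup.map_top_of_surjective _ φ.surjective,
        ← commutator_def] at this
    exact congrArg Units.val (hker (hmem _))
  · intro hker
    set D : Subgroup G := ⁅(P : Subgroup G), (P : Subgroup G)⁆ with hD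
    obtain ⟨χ, hχ, hval⟩ := exists_descend ψ.2 D hker
    set A : Subgroup (G ⧸ D) := (P : Subgroup G).map (QuotientGroup.mk' D) with hA
    haveI : A.Normal := Subgroup.Normal.map hPn _ (QuotientGroup.mk'_surjective D)
    obtain ⟨d, hd, hdvd⟩ := exists_degree_dvd_index_of_abelian hχ A (by
      rintro _ ⟨a, ha, rfl⟩ _ ⟨b, hb, rfl⟩
      have hab : ⁅a⁻¹, b⁻¹⁆ ∈ D := Subgroup.commutator_mem_commutator (inv_mem ha) (inv_mem hb)
      rw [← map_mul, ← map_mul, QuotientGroup.mk'_apply, QuotientGroup.mk'_apply, eq_comm,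
        QuotientGroup.eq]
      simpa [commutatorElement_def, mul_assoc] using hab)
    have : charDegree (ψ : G → ℂ) = d := CfsgLib.ZerosCodegree.charDegree_eq
      (by rw [hval, QuotientGroup.mk_one, hd])
    rw [this]
    exact fun h => P.not_dvd_index ((h.trans hdvd).trans
      (Subgroup.index_map_dvd _ (QuotientGroup.mk'_surjective D)))

/-- The sum for a group with a normal Sylow subgroup. -/
theorem card_eq_of_normal (P : Sylow p G) [(P : Subgroup G).Normal] :
    Nat.card G = Nat.card (commutator ↥(P : Subgroup G)) * pSum p G := by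
  classical
  haveI := Fintype.ofFinite G
  haveI := Fintype.ofFinite (IrrCharacter G)
  set D : Subgroup G := ⁅(P : Subgroup G), (P : Subgroup G)⁆ with hD
  have h := CfsgLib.CyclicTI.sum_degree_sq_above D
  have hfil : (Finset.univ.filter fun θ : IrrCharacter G => ∀ a ∈ D, (θ : G → ℂ) a = (θ : G → ℂ) 1) =
      Finset.univ.filter fun θ : IrrCharacter G => ¬ p ∣ charDegree (θ : G → ℂ) :=
    Finset.filter_congr fun θ _ => (not_dvd_iff p P θ).symm
  rw [hfil] at h
  have hidx : pSum p G = D.index := by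
    rw [pSum_eq]
    have : ((∑ χ ∈ Finset.univ.filter (fun χ : IrrCharacter G => ¬ p ∣ charDegree (χ : G → ℂ)),
      charDegree (χ : G → ℂ) ^ 2 : ℕ) : ℂ) = (D.index : ℂ) := by
      rw [← h, Nat.cast_sum]
      exact Finset.sum_congr rfl fun χ _ => by rw [Nat.cast_pow, deg_cast]
    exact_mod_cast this
  rw [hidx, Nat.card_congr (Subgroup.equivMapOfInjective (commutator ↥(P : Subgroup G))
    (P : Subgroup G).subtype Subtype.val_injective).toEquiv, Subgroup.map_subtype_commutator,
    ← hD, Subgroup.card_mul_index]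

/-- The Sylow normalizer. -/
theorem card_normalizer (P : Sylow p G) :
    Nat.card (Subgroup.normalizer ((P : Subgroup G) : Set G)) =
      Nat.card (commutator ↥(P : Subgroup G)) *
        pSum p ↥(Subgroup.normalizer ((P : Subgroup G) : Set G)) := by
  set N := Subgroup.normalizer ((P : Subgroup G) : Set G) with hN
  have hPN : (P : Subgroup G) ≤ N := Subgroup.le_normalizer
  set PN : Sylow p N := P.subtype hPN with hPN'
  have hcoe : (PN : Subgroup N) = (P : Subgroup G).subgroupOf N := Sylow.coe_subtype P hPN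
  haveI : (PN : Subgroup N).Normal := by
    rw [hcoe]; exact Subgroup.normal_in_normalizer
  rw [card_eq_of_normal p PN]
  congr 1
  exact card_commutator_congr ((MulEquiv.subgroupCongr hcoe).trans
    (Subgroup.subgroupOfEquivOfLe hPN))

theorem not_dvd_normalizer_index (P : Sylow p G) :
    ¬ p ∣ (Subgroup.normalizer ((P : Subgroup G) : Set G)).index := fun h =>
  P.not_dvd_index (h.trans (Subgroup.index_dvd_of_le Subgroup.le_normalizer))

/-- Equality gives a normal complement. -/
theorem exists_complement_of_eq (P : Sylow p G)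
    (heq : pSum p ↥(Subgroup.normalizer ((P : Subgroup G) : Set G)) = pSum p G) :
    ∃ K : Subgroup G, K.Normal ∧ K ⊓ Subgroup.normalizer ((P : Subgroup G) : Set G) = ⊥ ∧
      K ⊔ Subgroup.normalizer ((P : Subgroup G) : Set G) = ⊤ := by
  classical
  have hp : p.Prime := Fact.out
  set N := Subgroup.normalizer ((P : Subgroup G) : Set G) with hN
  have hres := (pSum_le p N (not_dvd_normalizer_index p P)).2 heq
  set M := Subgroup.normalClosure ((P : Subgroup G) : Set G) with hMd
  have hPM : (P : Subgroup G) ≤ M := Subgroup.le_normalClosure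
  have hPN : (P : Subgroup G) ≤ N := Subgroup.le_normalizer
  -- `M ⊓ N = P`
  have hMN : M ⊓ N = (P : Subgroup G) := by
    refine le_antisymm ?_ (le_inf hPM hPN)
    rintro x ⟨hxM, hxN⟩
    by_contra hxP
    set R : Subgroup N := (P : Subgroup G).subgroupOf N with hR
    haveI : R.Normal := Subgroup.normal_in_normalizer
    have hxR : ((⟨x, hxN⟩ : N) : N ⧸ R) ≠ 1 := by
      rw [Ne, QuotientGroup.eq_one_iff]; exact hxP
    haveI := Fintype.ofFinite (N ⧸ R)
    obtain ⟨θ, hθ⟩ := exists_irr_apply_ne hxR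
    set ψ : IrrCharacter N := ⟨fun n => (θ : N ⧸ R → ℂ) (n : N ⧸ R),
      isIrrCharacter_comp θ.2 (f := QuotientGroup.mk' R) (QuotientGroup.mk'_surjective R)⟩ with hψ
    have hψR : ∀ d : N, (d : G) ∈ (P : Subgroup G) → (ψ : N → ℂ) d = (ψ : N → ℂ) 1 := fun d hd => by
      show (θ : N ⧸ R → ℂ) d = (θ : N ⧸ R → ℂ) ((1 : N) : N ⧸ R)
      rw [(QuotientGroup.eq_one_iff d).2 hd, QuotientGroup.mk_one]
    set PN : Sylow p N := P.subtype hPN with hPN'
    have hcoe : (PN : Subgroup N) = R := Sylow.coe_subtype P hPN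
    haveI : (PN : Subgroup N).Normal := by rw [hcoe]; infer_instance
    have hψT : ¬ p ∣ charDegree (ψ : N → ℂ) := (not_dvd_iff p PN ψ).2 fun d hd => by
      refine hψR d ?_
      have h' : d ∈ (PN : Subgroup N) := Subgroup.commutator_le_left _ _ hd
      rw [hcoe] at h'
      exact h'
    -- a character of `G` above `ψ`
    haveI := Fintype.ofFinite N
    haveI := Fintype.ofFinite (IrrCharacter G)
    haveI := Fintype.ofFinite (IrrCharacter N)
    obtain ⟨m, hm⟩ := exists_mult N
    obtain ⟨χ, hχT, hχm⟩ : ∃ χ : IrrCharacter G, ¬ p ∣ charDegree (χ : G → ℂ) ∧ m χ ψ ≠ 0 := by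
      by_contra hc
      push Not at hc
      refine (Nat.Prime.not_dvd_mul hp (not_dvd_normalizer_index p P) hψT) ?_
      rw [ind_deg N m hm ψ]
      refine Finset.dvd_sum fun χ _ => ?_
      by_cases hχ : p ∣ charDegree (χ : G → ℂ)
      · exact dvd_mul_of_dvd_right hχ _
      · rw [hc χ hχ, zero_mul]; exact dvd_zero p
    obtain ⟨η, -, hη⟩ := hres χ hχT
    have hηψ : η = ψ := by
      by_contra hne
      refine hχm ?_
      have h1 := hm χ ψ
      rw [show (fun h : N => (χ : G → ℂ) h) = (η : N → ℂ) from funext hη,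
        classInner_eq_zero_of_ne η.2 ψ.2 fun h => hne (Subtype.ext h)] at h1
      exact_mod_cast h1.symm
    subst hηψ
    obtain ⟨K, hK, hKmem, -⟩ := exists_kernel (IsIrrCharacter.isCharacter χ.2)
    haveI := hK
    have hMK : M ≤ K := Subgroup.normalClosure_le_normal fun d hd => (hKmem d).2 (by
      have h2 := hη ⟨d, hPN hd⟩
      have h3 := hη 1
      rw [OneMemClass.coe_one] at h3
      show (χ : G → ℂ) d = _
      rw [h3, ← hψR ⟨d, hPN hd⟩ hd, ← h2])
    refine hθ ?_
    have h2 := hη ⟨x, hxN⟩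
    have h3 := hη 1
    rw [OneMemClass.coe_one] at h3
    have h4 := (hKmem x).1 (hMK hxM)
    show (ψ : N → ℂ) ⟨x, hxN⟩ = (θ : N ⧸ R → ℂ) 1
    rw [← h2, h4, h3]
    show (θ : N ⧸ R → ℂ) ((1 : N) : N ⧸ R) = _
    rw [QuotientGroup.mk_one]
  -- the Sylow normalizer of `M`
  set PM : Sylow p M := P.subtype hPM with hPM'
  have hPMcoe : (PM : Subgroup M) = (P : Subgroup G).subgroupOf M := Sylow.coe_subtype P hPM
  set L := Subgroup.normalizer ((PM : Subgroup M) : Set M) with hL
  have hLPM : L = (PM : Subgroup M) := by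
    refine le_antisymm (fun x hx => ?_) Subgroup.le_normalizer
    rw [hPMcoe]
    refine hMN.le ⟨x.2, ?_⟩
    show (x : G) ∈ N
    rw [hN, Subgroup.mem_normalizer_iff]
    intro h
    rw [hL, Subgroup.mem_normalizer_iff, hPMcoe] at hx
    have hxh : (x : G) * h * (x : G)⁻¹ ∈ M ↔ h ∈ M :=
      ⟨fun h' => by
        have := mul_mem (mul_mem (inv_mem x.2) h') x.2
        simpa [mul_assoc] using this,
       fun h' => mul_mem (mul_mem x.2 h') (inv_mem x.2)⟩
    constructor
    · intro hh
      exact (hx ⟨h, hPM hh⟩).1 hh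
    · intro hh
      exact (hx ⟨h, hxh.1 (hPM hh)⟩).2 hh
  have hnormM : M.Normal := Subgroup.normalClosure_normal
  have hMidx : ¬ p ∣ M.index := fun h => P.not_dvd_index (h.trans (Subgroup.index_dvd_of_le hPM))
  have hsup : M ⊔ N = ⊤ := by
    rw [sup_comm]
    exact Sylow.normalizer_sup_eq_top' P hPM
  -- equality in `M`
  have heqM : pSum p L = pSum p M := by
    have h1 := card_normalizer p P
    have h2 := card_normalizer p PM
    have h3 := index_mul_pSum p M hMidx
    rw [← hL] at h2
    have hcL : Nat.card L = Nat.card (P : Subgroup G) := by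
      rw [hLPM, hPMcoe]
      exact Nat.card_congr (Subgroup.subgroupOfEquivOfLe hPM).toEquiv
    have hcc : Nat.card (commutator ↥(PM : Subgroup M)) = Nat.card (commutator ↥(P : Subgroup G)) :=
      card_commutator_congr ((MulEquiv.subgroupCongr hPMcoe).trans (Subgroup.subgroupOfEquivOfLe hPM))
    have hNcard : Nat.card N = M.index * Nat.card (P : Subgroup G) := by
      have h4 : M.relIndex N = M.index := by
        rw [← Subgroup.relIndex_sup_right (H := N) (K := M), sup_comm, hsup, Subgroup.relIndex_top_right]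
      have h5 := Subgroup.card_mul_index ((M ⊓ N).subgroupOf N)
      rw [Nat.card_congr (Subgroup.subgroupOfEquivOfLe inf_le_right).toEquiv] at h5
      rw [← h5, ← Subgroup.relIndex, Subgroup.inf_relIndex_right, h4, hMN, mul_comm]
    rw [hcc, hcL] at h2
    rw [← hN] at h1
    rw [hNcard, h2, heq, ← h3] at h1
    have hpos : 0 < Nat.card (commutator ↥(P : Subgroup G)) * M.index :=
      Nat.mul_pos Nat.card_pos (Nat.pos_of_ne_zero Subgroup.index_ne_zero_of_finite)
    refine Nat.eq_of_mul_eq_mul_left hpos ?_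
    linarith
  have hresM := (pSum_le p L (by rw [hLPM]; exact PM.not_dvd_index)).2 heqM
  -- every such character of `M` is linear
  have hlin : ∀ η : IrrCharacter M, ¬ p ∣ charDegree (η : M → ℂ) → charDegree (η : M → ℂ) = 1 := by
    intro η hη
    obtain ⟨ψ, hψ, hval⟩ := hresM η hη
    have hd : charDegree (η : M → ℂ) = charDegree (ψ : L → ℂ) :=
      CfsgLib.ZerosCodegree.charDegree_eq (by rw [← deg_cast ψ, ← hval 1, OneMemClass.coe_one])
    have hPMg : IsPGroup p L := by rw [hLPM]; exact PM.2
    obtain ⟨n, hn⟩ := IsPGroup.iff_card.1 hPMg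
    obtain ⟨j, -, hj⟩ := (Nat.dvd_prime_pow hp).1
      (hn ▸ CfsgLib.ZerosCodegree.charDegree_dvd_card ψ)
    rcases j with _ | j
    · rw [hd, hj, pow_zero]
    · exact absurd (hj ▸ dvd_pow_self p (Nat.succ_ne_zero j)) hψ
  -- the normal p-complement
  obtain ⟨Mid, hMid⟩ := CfsgLib.CharDegreesTheory.exists_isPModular (Fact.out : p.Prime)
  obtain ⟨Q, K, hK, hKc⟩ := (Cfsg.Agent.S4888.result (G := M) p Mid hMid).1 ⟨1, fun η hη hh => by
    refine hlin η fun hdiv => ?_
    have hone : (⟨fun _ => (1 : ℂ), CfsgLib.CharTheory.isIrrCharacter_one⟩ : IrrCharacter M) ∈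
        Cfsg.principalBlock Mid M := fun g => by
      haveI := CfsgLib.Blocks.isPrime_of_isPModular hMid
      show Cfsg.MemLocalIdeal Mid _
      rw [sub_self]; exact CfsgLib.Blocks.memLocalIdeal_zero
    have hinf : sInf ((fun χ : IrrCharacter M => (charDegree (χ : M → ℂ)).factorization p) ''
        Cfsg.principalBlock Mid M) = 0 :=
      Nat.eq_zero_of_le_zero (Nat.sInf_le ⟨_, hone, by simp [charDegree]⟩)
    rw [blockHeight, hinf, Nat.sub_zero] at hh
    have := (hp.factorization_pos_of_dvd (CfsgLib.ZerosCodegree.charDegree_pos η).ne' hdiv)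
    omega⟩
  obtain ⟨n, hn⟩ := IsPGroup.iff_card.1 Q.2
  have hKp : ¬ p ∣ Nat.card K := by
    have h1 := hKc.card_mul_card
    rw [← Subgroup.card_mul_index (Q : Subgroup M)] at h1
    have : Nat.card K = (Q : Subgroup M).index :=
      Nat.eq_of_mul_eq_mul_left (Nat.card_pos (α := (Q : Subgroup M))) (by rw [mul_comm, h1])
    rw [this]; exact Q.not_dvd_index
  have hquot : ∀ x : M, ¬ p ∣ orderOf x → x ∈ K := by
    intro x hx
    rw [← QuotientGroup.eq_one_iff, ← orderOf_eq_one_iff]
    refine Nat.eq_one_of_dvd_coprimes (((hp.coprime_iff_not_dvd.2 hx).symm).pow_right n)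
      (orderOf_map_dvd (QuotientGroup.mk' K) x) ?_
    have hKi : K.index = p ^ n := by rw [hKc.symm.index_eq_card, hn]
    rw [← hKi, Subgroup.index_eq_card]
    exact orderOf_dvd_natCard _
  refine ⟨K.map M.subtype, ⟨?_⟩, ?_, ?_⟩
  · rintro _ ⟨k, hk, rfl⟩ g
    refine ⟨⟨g * k * g⁻¹, hnormM.conj_mem k k.2 g⟩, hquot _ ?_, rfl⟩
    rw [← Subgroup.orderOf_coe]
    show ¬ p ∣ orderOf (g * (k : G) * g⁻¹)
    rw [← MulAut.conj_apply g, MulEquiv.orderOf_eq, Subgroup.orderOf_coe]
    exact fun h => hKp (h.trans (K.orderOf_dvd_natCard hk))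
  · rw [eq_bot_iff]
    rintro _ ⟨⟨k, hk, rfl⟩, hkN⟩
    have hkP : (k : G) ∈ (P : Subgroup G) := hMN.le ⟨k.2, hkN⟩
    rw [Subgroup.mem_bot, ← orderOf_eq_one_iff]
    show orderOf (k : G) = 1
    obtain ⟨j, hj⟩ := (IsPGroup.iff_orderOf.1 P.2) (⟨(k : G), hkP⟩ : (P : Subgroup G))
    rw [Subgroup.orderOf_mk] at hj
    rcases j with _ | j
    · rw [hj, pow_zero]
    · exfalso
      refine hKp (dvd_trans ?_ (K.orderOf_dvd_natCard hk))
      rw [← Subgroup.orderOf_coe, hj]
      exact dvd_pow_self p (Nat.succ_ne_zero j)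
  · have hKPM : K ⊔ (PM : Subgroup M) = ⊤ :=
      (Subgroup.isComplement'_of_coprime (by
        rw [PM.card_eq_multiplicity, ← Q.card_eq_multiplicity]; exact hKc.card_mul_card) (by
        rw [PM.card_eq_multiplicity]
        exact ((hp.coprime_iff_not_dvd.2 hKp).symm).pow_right _)).sup_eq_top
    rw [eq_top_iff, ← hsup]
    refine sup_le ?_ le_sup_right
    intro x hx
    have : (⟨x, hx⟩ : M) ∈ K ⊔ (PM : Subgroup M) := hKPM ▸ Subgroup.mem_top _
    have h' := Subgroup.mem_map_of_mem M.subtype this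
    rw [Subgroup.map_sup] at h'
    have hle : (PM : Subgroup M).map M.subtype ≤ N := by
      rw [hPMcoe]
      exact (Subgroup.map_subgroupOf_eq_of_le hPM).le.trans hPN
    exact sup_le (le_sup_left) (hle.trans le_sup_right) h'

/-- A normal complement gives equality. -/
theorem eq_of_complement (P : Sylow p G) (K : Subgroup G) [K.Normal]
    (h1 : K ⊓ Subgroup.normalizer ((P : Subgroup G) : Set G) = ⊥)
    (h2 : K ⊔ Subgroup.normalizer ((P : Subgroup G) : Set G) = ⊤) :
    pSum p ↥(Subgroup.normalizer ((P : Subgroup G) : Set G)) = pSum p G := by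
  classical
  have hp : p.Prime := Fact.out
  haveI := Fintype.ofFinite G
  haveI := Fintype.ofFinite K
  set N := Subgroup.normalizer ((P : Subgroup G) : Set G) with hN
  haveI := Fintype.ofFinite N
  haveI := Fintype.ofFinite (IrrCharacter G)
  haveI := Fintype.ofFinite (IrrCharacter N)
  haveI := Fintype.ofFinite (IrrCharacter K)
  have hc : N.IsComplement' K := (Subgroup.isComplement'_of_disjoint_and_mul_eq_univ
    (by rw [disjoint_iff, h1]) (by rw [← Subgroup.normal_mul, h2, Subgroup.coe_top])).symm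
  have hKidx : Nat.card K = N.index := hc.symm.index_eq_card.symm
  have hKp : ¬ p ∣ Nat.card K := hKidx ▸ not_dvd_normalizer_index p P
  -- characters of degree prime to `p` are trivial on `K`
  have htriv : ∀ χ : IrrCharacter G, ¬ p ∣ charDegree (χ : G → ℂ) →
      ∀ k ∈ K, (χ : G → ℂ) k = (χ : G → ℂ) 1 := by
    intro χ hχ
    obtain ⟨θ, hθ⟩ := exists_constituent K (IsIrrCharacter.isCharacter χ.2)
      (apply_one_ne_zero_of_isIrr χ.2)
    obtain ⟨e, he⟩ := IsCharacter.exists_classInner_eq_nat
      (CfsgLib.Coherence.isCharacter_comp (IsIrrCharacter.isCharacter χ.2) K.subtype) θ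
    have he' : classInner (fun n : K => (χ : G → ℂ) n) (θ : K → ℂ) = e := he
    have h0 := CfsgLib.Clifford.apply_one_eq K χ.2 θ.2 hθ
    rw [he', deg_cast, deg_cast, ← Nat.cast_mul, ← Nat.cast_mul, Nat.cast_inj] at h0
    -- a member of the orbit fixed by `P`
    let X := {η : K → ℂ // η ∈ CfsgLib.Clifford.conjOrbit K (θ : K → ℂ)}
    letI : MulAction (P : Subgroup G) X :=
      { smul := fun a η => ⟨CfsgLib.Clifford.conjChar K η.1 (a : G)⁻¹, by
          obtain ⟨g, hg⟩ := (CfsgLib.Clifford.mem_conjOrbit K).1 η.2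
          refine (CfsgLib.Clifford.mem_conjOrbit K).2 ?_
          rw [← hg, CfsgLib.Clifford.conjChar_conjChar]
          exact ⟨_, rfl⟩⟩
        one_smul := fun η => Subtype.ext (by
          show CfsgLib.Clifford.conjChar K η.1 ((1 : (P : Subgroup G)) : G)⁻¹ = η.1
          rw [OneMemClass.coe_one, inv_one, CfsgLib.Clifford.conjChar_one])
        mul_smul := fun a b η => Subtype.ext (by
          show CfsgLib.Clifford.conjChar K η.1 ((a * b : (P : Subgroup G)) : G)⁻¹ =
            CfsgLib.Clifford.conjChar K (CfsgLib.Clifford.conjChar K η.1 (b : G)⁻¹) (a : G)⁻¹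
          rw [CfsgLib.Clifford.conjChar_conjChar, Subgroup.coe_mul, mul_inv_rev]) }
    have hX : ¬ p ∣ Nat.card X := by
      rw [Nat.card_eq_fintype_card, Fintype.card_coe]
      exact fun h => hχ (h0 ▸ dvd_mul_of_dvd_left (dvd_mul_of_dvd_right h _) _)
    obtain ⟨⟨η, hη⟩, hfix⟩ := P.2.nonempty_fixed_point_of_prime_not_dvd_card X hX
    obtain ⟨g, hg⟩ := (CfsgLib.Clifford.mem_conjOrbit K).1 hη
    have hηirr : IsIrrCharacter K η := hg ▸ CfsgLib.Clifford.isIrrCharacter_conjChar K θ.2 g
    have hηinv : ∀ (a : (P : Subgroup G)) (k : K), η (MulAut.conjNormal (a : G) k) = η k := by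
      intro a k
      have h3 := congrFun (congrArg Subtype.val (hfix a⁻¹)) k
      have h4 : CfsgLib.Clifford.conjChar K η (((a⁻¹ : (P : Subgroup G)) : G))⁻¹ k = η k := h3
      rw [InvMemClass.coe_inv, inv_inv, CfsgLib.Clifford.conjChar_eq_comp] at h4
      exact h4
    -- it is trivial
    have hη1 : η = fun _ => (1 : ℂ) := by
      by_contra hne
      letI : MulAction (P : Subgroup G) K :=
        { smul := fun a k => MulAut.conjNormal (a : G) k
          one_smul := fun k => Subtype.ext (by
            show ((MulAut.conjNormal ((1 : (P : Subgroup G)) : G) k : K) : G) = k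
            simp)
          mul_smul := fun a b k => Subtype.ext (by
            show ((MulAut.conjNormal ((a * b : (P : Subgroup G)) : G) k : K) : G) =
              (MulAut.conjNormal (a : G) (MulAut.conjNormal (b : G) k) : K)
            simp [MulAut.conjNormal_apply, mul_assoc]) }
      have hfp : ∀ k : K, k ∈ MulAction.fixedPoints (P : Subgroup G) K ↔ k = 1 := by
        intro k
        constructor
        · intro hk
          refine Subtype.ext ((Subgroup.mem_bot).1 (h1 ▸ ⟨k.2, ?_⟩))
          show (k : G) ∈ N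
          rw [hN, Subgroup.mem_normalizer_iff]
          have hcomm : ∀ y ∈ (P : Subgroup G), (k : G) * y * (k : G)⁻¹ = y := fun y hy => by
            have h5 := congrArg Subtype.val (hk ⟨y, hy⟩)
            change (MulAut.conjNormal y k : G) = k at h5
            rw [MulAut.conjNormal_apply, mul_inv_eq_iff_eq_mul] at h5
            rw [← h5, mul_inv_eq_iff_eq_mul, h5]
          intro y
          constructor
          · intro hy; rw [hcomm y hy]; exact hy
          · intro hy
            have h6 := hcomm _ hy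
            have h7 : (k : G) * y * (k : G)⁻¹ = y := by
              have := congrArg (fun z => (k : G)⁻¹ * z * (k : G)) h6
              simpa [mul_assoc] using this
            rwa [h7] at hy
        · rintro rfl a
          show MulAut.conjNormal (a : G) (1 : K) = 1
          exact map_one _
      have hsum := CfsgLib.CharDegreesTheory.intCong_sum_fixedPoints P.2 (X := K) η
        (fun k => IsCharacter.isIntegral (IsIrrCharacter.isCharacter hηirr) k) (fun a k => hηinv a k)
      have hl : ∑ k : K, η k = 0 := by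
        have h8 := classInner_eq_zero_of_ne hηirr (CfsgLib.CharTheory.isIrrCharacter_one (G := K)) hne
        rw [classInner, mul_eq_zero] at h8
        rcases h8 with h8 | h8
        · exact absurd h8 (inv_ne_zero (Nat.cast_ne_zero.2 Nat.card_pos.ne'))
        · simpa using h8
      have hr : (∑ k : K with k ∈ MulAction.fixedPoints (P : Subgroup G) K, η k) = η 1 := by
        rw [Finset.sum_eq_single_of_mem (1 : K) (by simp [hfp]) fun k hk hk1 =>
          absurd ((hfp k).1 (Finset.mem_filter.1 hk).2) hk1]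
      rw [hl, hr, show η 1 = (charDegree η : ℂ) from deg_cast ⟨η, hηirr⟩] at hsum
      have hd := CfsgLib.CharDegreesTheory.IntCong.dvd hp.ne_zero hsum.symm
      exact hKp (hd.trans (CfsgLib.ZerosCodegree.charDegree_dvd_card (⟨η, hηirr⟩ : IrrCharacter K)))
    have horb : ∀ η' ∈ CfsgLib.Clifford.conjOrbit K (θ : K → ℂ), η' = fun _ => (1 : ℂ) := by
      have hθ1 : (θ : K → ℂ) = fun _ => (1 : ℂ) := by
        have : CfsgLib.Clifford.conjChar K η g⁻¹ = (θ : K → ℂ) := by
          rw [← hg, CfsgLib.Clifford.conjChar_conjChar]; simp [CfsgLib.Clifford.conjChar_one]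
        rw [← this, hη1, CfsgLib.Clifford.conjChar_eq_comp]; try rfl
      intro η' hη'
      obtain ⟨g', rfl⟩ := (CfsgLib.Clifford.mem_conjOrbit K).1 hη'
      rw [hθ1, CfsgLib.Clifford.conjChar_eq_comp]; try rfl
    intro k hk
    have e1 := congrFun (CfsgLib.Clifford.res_eq K χ.2 θ.2 hθ) ⟨k, hk⟩
    have e2 := congrFun (CfsgLib.Clifford.res_eq K χ.2 θ.2 hθ) 1
    simp only [Pi.smul_apply, Finset.sum_apply, smul_eq_mul, OneMemClass.coe_one] at e1 e2
    rw [e1, e2]
    congr 1
    exact Finset.sum_congr rfl fun η' hη' => by rw [horb η' hη']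
  -- inflation
  set e : G ⧸ K ≃* N := hc.QuotientMulEquiv with he
  let infl : IrrCharacter N → IrrCharacter G := fun ψ => ⟨fun g => (ψ : N → ℂ) (e (g : G ⧸ K)),
    isIrrCharacter_comp (isIrrCharacter_comp_mulEquiv ψ.2 e) (f := QuotientGroup.mk' K)
      (QuotientGroup.mk'_surjective K)⟩
  have hinfl1 : ∀ ψ, charDegree (infl ψ : G → ℂ) = charDegree (ψ : N → ℂ) := fun ψ => by
    unfold charDegree
    show ⌊((ψ : N → ℂ) (e ((1 : G) : G ⧸ K))).re⌋₊ = _
    rw [QuotientGroup.mk_one, map_one]
  rw [pSum_eq, pSum_eq]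
  refine Finset.sum_bij (fun ψ _ => infl ψ) (fun ψ hψ => ?_) (fun a _ b _ hab => ?_) (fun χ hχ => ?_)
    (fun ψ _ => by rw [hinfl1])
  · simpa [hinfl1] using hψ
  · refine Subtype.ext (funext fun n => ?_)
    obtain ⟨g, hg⟩ := QuotientGroup.mk_surjective (e.symm n)
    have := congrFun (congrArg Subtype.val hab) g
    simpa [infl, hg] using this
  · obtain ⟨φ, hφ, hval⟩ := exists_descend χ.2 K (htriv χ (Finset.mem_filter.1 hχ).2)
    refine ⟨⟨_, isIrrCharacter_comp_mulEquiv hφ e.symm⟩, ?_, ?_⟩
    · have : infl ⟨_, isIrrCharacter_comp_mulEquiv hφ e.symm⟩ = χ := Subtype.ext (funext fun g => by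
        show φ (e.symm (e (g : G ⧸ K))) = _
        rw [MulEquiv.symm_apply_apply, hval])
      have h9 := hinfl1 ⟨_, isIrrCharacter_comp_mulEquiv hφ e.symm⟩
      rw [this] at h9
      simpa [← h9] using hχ
    · exact Subtype.ext (funext fun g => by
        show φ (e.symm (e (g : G ⧸ K))) = _
        rw [MulEquiv.symm_apply_apply, hval])

end CfsgLib.Clifford.PPrimeSquares
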