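import Cfsg.Agent.Lib.Clifford.NonVanish
import Cfsg.Agent.Lib.Clifford.Basic
import Cfsg.Agent.Lib.CharTheory.Ito
import Cfsg.Agent.Lib.CharTheory.Inflation
import Cfsg.Agent.Lib.NormalPComplement.Basic
import Cfsg.Agent.Lib.Subnormal.Cover
import Cfsg.Agent.Lib.ZerosCodegree.CharBasics
import Cfsg.Agent.Lib.CharDegreesTheory.BlockDegrees
import Cfsg.Agent.S0191
import Cfsg.Agent.S4888

/-!
# Groups in which all vanishing elements have `p`-power order
-/

set_option autoImplicit false
set_option linter.style.haveILetI false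

open scoped commutatorElement Pointwise
open Cfsg CfsgLib.CharTheory

namespace CfsgLib.Clifford.VanishingP

universe u

variable {G : Type u} [Group G]

/-- Burnside: a nonlinear irreducible character has a zero. -/
theorem exists_zero [Finite G] (χ : IrrCharacter G) (h : charDegree (χ : G → ℂ) ≠ 1) :
    ∃ g : G, (χ : G → ℂ) g = 0 := by
  obtain ⟨n, ρ, hρ, he⟩ := χ.2
  have hn : charDegree (χ : G → ℂ) = n := CfsgLib.ZerosCodegree.charDegree_eq
    (by rw [← he, ρ.char_one]; simp)
  have hpos := CfsgLib.ZerosCodegree.charDegree_pos χ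
  obtain ⟨g, hg⟩ := Cfsg.Agent.S0191.result ρ (by rw [Module.finrank_fin_fun]; omega)
  exact ⟨g, he ▸ hg⟩

/-- In a `p`-group only central elements avoid all zeros. -/
theorem mem_center_of_nonvanishing {p : ℕ} [Fact p.Prime] : ∀ (n : ℕ) (P : Type u) [Group P]
    [Finite P], IsPGroup p P → Nat.card P ≤ n → ∀ x : P,
    (∀ χ : IrrCharacter P, (χ : P → ℂ) x ≠ 0) → x ∈ Subgroup.center P := by
  intro n
  induction n with
  | zero => intro P _ _ _ hc; exact absurd hc (by have := Nat.card_pos (α := P); omega)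
  | succ n ih =>
    intro P _ _ hP hc x hx
    rcases subsingleton_or_nontrivial P with h | h
    · rw [Subgroup.mem_center_iff]; intro g; exact Subsingleton.elim _ _
    haveI := hP.center_nontrivial
    set Z := Subgroup.center P with hZ
    have hlt : Nat.card (P ⧸ Z) ≤ n := by
      have h1 : 1 < Nat.card Z := Finite.one_lt_card
      have h2 := Subgroup.card_eq_card_quotient_mul_card_subgroup Z
      have h3 : 0 < Nat.card (P ⧸ Z) := Nat.card_pos
      nlinarith
    have hxq := ih (P ⧸ Z) (hP.to_quotient Z) hlt (x : P ⧸ Z) (fun χ => hx ⟨_, isIrrCharacter_comp χ.2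
      (f := QuotientGroup.mk' Z) (QuotientGroup.mk'_surjective Z)⟩)
    rw [Subgroup.mem_center_iff]
    intro a
    by_contra hne
    set c := x⁻¹ * a⁻¹ * x * a with hc'
    have hcZ : c ∈ Z := by
      rw [← QuotientGroup.eq_one_iff]
      have h4 := Subgroup.mem_center_iff.1 hxq (a⁻¹ : P)
      simp only [hc', QuotientGroup.mk_mul, QuotientGroup.mk_inv] at h4 ⊢
      rw [mul_assoc ((x : P ⧸ Z))⁻¹, h4]
      group
    have hc1 : c ≠ 1 := fun h5 => hne (by
      have : a * (x * c) = a * x := by rw [h5, mul_one]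
      rw [← this, hc']; group)
    haveI := Fintype.ofFinite P
    obtain ⟨χ, hχ⟩ := exists_irr_apply_ne hc1
    obtain ⟨m, ρ, hρ, he⟩ := χ.2
    obtain ⟨w, hw⟩ := exists_smul_of_commute ρ (ρ c) (fun g => by
      show ρ c * ρ g = ρ g * ρ c
      rw [← map_mul, ← map_mul, ((Subgroup.mem_center_iff.1 hcZ) g).symm])
    have hxc : (χ : P → ℂ) (x * c) = w * (χ : P → ℂ) x := by
      rw [← he]
      show LinearMap.trace ℂ _ (ρ (x * c)) = w * LinearMap.trace ℂ _ (ρ x)
      rw [map_mul, hw, mul_smul_comm, map_smul, smul_eq_mul]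
      congr 2
    have hconj : (χ : P → ℂ) (x * c) = (χ : P → ℂ) x := by
      have h6 : x * c = a⁻¹ * x * a⁻¹⁻¹ := by rw [hc']; group
      rw [h6]; exact IsIrrCharacter.isClassFunction χ.2 x a⁻¹
    have hw1 : w ≠ 1 := by
      rintro rfl
      refine hχ ?_
      rw [← he]
      show LinearMap.trace ℂ _ (ρ c) = LinearMap.trace ℂ _ (ρ 1)
      rw [hw, map_one, one_smul]
      rfl
    refine hw1 (mul_right_cancel₀ (hx χ) ?_)
    rw [one_mul, ← hxc, hconj]

variable [Finite G] (p : ℕ) [Fact p.Prime]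

/-- The hypothesis. -/
def VanP (p : ℕ) (G : Type u) [Group G] : Prop :=
  ∀ g : G, (∃ χ : IrrCharacter G, (χ : G → ℂ) g = 0) → ∃ m : ℕ, 1 ≤ m ∧ orderOf g = p ^ m

variable {p}

theorem hasNormalPComplement (h : VanP p G) : HasNormalPComplement p G := by
  have hp : p.Prime := Fact.out
  obtain ⟨M, hM⟩ := CfsgLib.CharDegreesTheory.exists_isPModular hp
  haveI := CfsgLib.Blocks.isPrime_of_isPModular hM
  refine (Cfsg.Agent.S4888.result p M hM).1 ⟨1, fun χ hχ hh => ?_⟩
  have hone : (⟨fun _ => (1 : ℂ), CfsgLib.CharTheory.isIrrCharacter_one⟩ : IrrCharacter G) ∈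
      Cfsg.principalBlock M G := fun g => by
    show Cfsg.MemLocalIdeal M _
    rw [sub_self]; exact CfsgLib.Blocks.memLocalIdeal_zero
  have hinf : sInf ((fun χ : IrrCharacter G => (charDegree (χ : G → ℂ)).factorization p) ''
      Cfsg.principalBlock M G) = 0 :=
    Nat.eq_zero_of_le_zero (Nat.sInf_le ⟨_, hone, by simp [charDegree]⟩)
  rw [blockHeight, hinf, Nat.sub_zero, Nat.factorization_eq_zero_iff] at hh
  have hdeg : ¬ p ∣ charDegree (χ : G → ℂ) := by
    rcases hh with h0 | h0 | h0
    · exact absurd hp h0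
    · exact h0
    · exact absurd h0 (CfsgLib.ZerosCodegree.charDegree_pos χ).ne'
  by_contra hne
  obtain ⟨g, hg⟩ := exists_zero χ hne
  obtain ⟨m, -, hm⟩ := h g ⟨χ, hg⟩
  exact CfsgLib.Clifford.apply_ne_zero_of_pow_prime_pow (IsIrrCharacter.isCharacter χ.2) hp
    (by rw [← hm]; exact pow_orderOf_eq_one g) (CfsgLib.ZerosCodegree.irr_apply_one_eq χ) hdeg hg

omit [Finite G] [Fact p.Prime] in
theorem orderOf_dvd_card_of_prime_to {K : Subgroup G} (hKp : ¬ p ∣ Nat.card K) {k : G}
    (hk : k ∈ K) {m : ℕ} (hm : 1 ≤ m) (he : orderOf k = p ^ m) : False :=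
  hKp ((dvd_pow_self p (by omega : m ≠ 0)).trans (he ▸ K.orderOf_dvd_natCard hk))

theorem isFrobenius (hna : ¬ IsMulCommutative G) (h : VanP p G) :
    IsPGroup p G ∨ (Subgroup.center G = pCore p G ∧
      ∃ H : Subgroup (G ⧸ Subgroup.center G), IsFrobeniusComplement H ∧ IsPGroup p H) := by
  classical
  have hp : p.Prime := Fact.out
  haveI := Fintype.ofFinite G
  obtain ⟨P, K, hK, hc⟩ := hasNormalPComplement h
  haveI := hK
  have hKp : ¬ p ∣ Nat.card K := by
    have h1 := hc.card_mul_card
    rw [← Subgroup.card_mul_index (P : Subgroup G)] at h1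
    have : Nat.card K = (P : Subgroup G).index :=
      Nat.eq_of_mul_eq_mul_left (Nat.card_pos (α := (P : Subgroup G))) (by rw [mul_comm, h1])
    rw [this]; exact P.not_dvd_index
  by_cases hK1 : K = ⊥
  · left
    have : (P : Subgroup G) = ⊤ := by
      have := hc.sup_eq_top
      rwa [hK1, bot_sup_eq] at this
    exact (IsPGroup.of_equiv P.2 ((MulEquiv.subgroupCongr this).trans Subgroup.topEquiv))
  right
  obtain ⟨n, hn⟩ := IsPGroup.iff_card.1 P.2
  -- elements of order prime to `p`
  have hmemK : ∀ z : G, ¬ p ∣ orderOf z → z ∈ K := by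
    intro z hz
    rw [← QuotientGroup.eq_one_iff, ← orderOf_eq_one_iff]
    refine Nat.eq_one_of_dvd_coprimes (((hp.coprime_iff_not_dvd.2 hz).symm).pow_right n)
      (orderOf_map_dvd (QuotientGroup.mk' K) z) ?_
    rw [← hn, ← hc.symm.index_eq_card, Subgroup.index_eq_card]
    exact orderOf_dvd_natCard _
  have hpdvd : ∀ k ∈ K, k ≠ 1 → ∀ x : G, Commute x k → (∃ m, orderOf x = p ^ m) →
      ∀ χ : IrrCharacter G, (χ : G → ℂ) (x * k) ≠ 0 := by
    intro k hk hk1 x hxk hx χ h0
    obtain ⟨m, hm1, hm⟩ := h _ ⟨χ, h0⟩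
    obtain ⟨a, ha⟩ := hx
    have hco : (orderOf x).Coprime (orderOf k) := by
      rw [ha]
      exact ((hp.coprime_iff_not_dvd.2 fun h' => hKp (h'.trans (K.orderOf_dvd_natCard hk)))).pow_left a
    rw [hxk.orderOf_mul_eq_mul_orderOf_of_coprime hco] at hm
    have h2 : orderOf k ∣ p ^ m := ⟨orderOf x, by rw [← hm, mul_comm]⟩
    obtain ⟨j, -, hj⟩ := (Nat.dvd_prime_pow hp).1 h2
    rcases j with _ | j
    · exact hk1 (orderOf_eq_one_iff.1 hj)
    · exact orderOf_dvd_card_of_prime_to hKp hk (Nat.le_add_left 1 j) hj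
  -- the key step
  set e : G ⧸ K ≃* (P : Subgroup G) := hc.symm.QuotientMulEquiv with he
  have key : ∀ x ∈ (P : Subgroup G), ∀ k ∈ K, k ≠ 1 → Commute x k → x ∈ Subgroup.center G := by
    intro x hxP k hk hk1 hxk
    have hxp : ∃ m, orderOf x = p ^ m := by
      obtain ⟨m, hm⟩ := (IsPGroup.iff_orderOf.1 P.2) ⟨x, hxP⟩
      exact ⟨m, by rw [← hm, Subgroup.orderOf_mk]⟩
    have hnv := hpdvd k hk hk1 x hxk hxp
    -- central in `P`
    have hxc : (⟨x, hxP⟩ : (P : Subgroup G)) ∈ Subgroup.center (P : Subgroup G) := by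
      refine mem_center_of_nonvanishing (p := p) _ _ P.2 le_rfl _ fun φ h0 => ?_
      refine hnv ⟨_, isIrrCharacter_comp (isIrrCharacter_comp_mulEquiv φ.2 e)
        (f := QuotientGroup.mk' K) (QuotientGroup.mk'_surjective K)⟩ ?_
      show (φ : ↥(P : Subgroup G) → ℂ) (e ((x * k : G) : G ⧸ K)) = 0
      have : ((x * k : G) : G ⧸ K) = ((x : G) : G ⧸ K) := by
        rw [QuotientGroup.mk_mul, (QuotientGroup.eq_one_iff k).2 hk, mul_one]
      rw [this]
      have he' : e ((x : G) : G ⧸ K) = ⟨x, hxP⟩ := by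
        rw [← MulEquiv.eq_symm_apply]; rfl
      rw [he', h0]
    -- fixes every character of `K`
    haveI := Fintype.ofFinite K
    haveI := Fintype.ofFinite (IrrCharacter G)
    haveI := Fintype.ofFinite (IrrCharacter K)
    have hfix : ∀ θ : IrrCharacter K, CfsgLib.Clifford.conjChar K (θ : K → ℂ) x = (θ : K → ℂ) := by
      intro θ
      set T := CfsgLib.CharTheory.inertia K (θ : K → ℂ) with hTdef
      have hKT := CfsgLib.CharTheory.le_inertia K (IsIrrCharacter.isClassFunction θ.2)
      haveI := Fintype.ofFinite T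
      have hθ0 : classInner (fun n : K => indFun K (θ : K → ℂ) n) (θ : K → ℂ) ≠ 0 := by
        rw [← CfsgLib.Frobenius.classInner_indFun_right K _ _
          (CfsgLib.Frobenius.indFun_isClassFunction K _)]
        intro h0
        rw [classInner, mul_eq_zero] at h0
        rcases h0 with h0 | h0
        · exact inv_ne_zero (Nat.cast_ne_zero.2 Nat.card_pos.ne') h0
        · have h1 : ∀ g : G, indFun K (θ : K → ℂ) g = 0 := by
            have h2 : ∑ g : G, (Complex.normSq (indFun K (θ : K → ℂ) g) : ℂ) = 0 := by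
              rw [← h0]; exact Finset.sum_congr rfl fun g _ => (Complex.mul_conj _).symm
            rw [← Complex.ofReal_sum, Complex.ofReal_eq_zero,
              Finset.sum_eq_zero_iff_of_nonneg fun g _ => Complex.normSq_nonneg _] at h2
            exact fun g => Complex.normSq_eq_zero.1 (h2 g (Finset.mem_univ g))
          have h3 := h1 1
          rw [CfsgLib.Frobenius.indFun_one] at h3
          exact mul_ne_zero (Nat.cast_ne_zero.2 Subgroup.index_ne_zero_of_finite)
            (apply_one_ne_zero_of_isIrr θ.2) h3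
      obtain ⟨χ, hχθ⟩ : ∃ χ : IrrCharacter G,
          classInner (fun n : K => (χ : G → ℂ) n) (θ : K → ℂ) ≠ 0 := by
        by_contra hno
        push Not at hno
        refine hθ0 ?_
        rw [show (fun n : K => indFun K (θ : K → ℂ) n) = ∑ χ : IrrCharacter G,
            classInner (indFun K (θ : K → ℂ)) (χ : G → ℂ) • fun n : K => (χ : G → ℂ) n from
          funext fun n => by
            have := congrFun (eq_sum_classInner (CfsgLib.Frobenius.indFun_isClassFunction K
              (θ : K → ℂ))) (n : G)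
            rw [this]; simp [Finset.sum_apply]]
        simp only [classInner_sum_left, classInner_smul_left, hno, mul_zero, Finset.sum_const_zero]
      obtain ⟨ψ, -, hind, -⟩ := CfsgLib.Clifford.exists_indFun_inertia_eq θ.2
        (CfsgLib.CharTheory.mem_inertia K (θ : K → ℂ)) hKT χ.2 hχθ
      obtain ⟨a, ha⟩ : ∃ a : G, a⁻¹ * (x * k) * a ∈ T := by
        by_contra hno
        push Not at hno
        refine hnv χ ?_
        rw [← hind]
        exact CfsgLib.Frobenius.indFun_eq_zero_of_forall_conj_not_mem T ψ hno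
      have hxT : x ∈ T := by
        have hq : ((a⁻¹ * (x * k) * a : G) : G ⧸ K) = ((x : G) : G ⧸ K) := by
          apply e.injective
          rw [QuotientGroup.mk_mul, QuotientGroup.mk_mul, QuotientGroup.mk_mul,
            (QuotientGroup.eq_one_iff k).2 hk, mul_one, map_mul, map_mul]
          have he' : e ((x : G) : G ⧸ K) = ⟨x, hxP⟩ := by
            rw [← MulEquiv.eq_symm_apply]; rfl
          rw [he', Subgroup.mem_center_iff.1 hxc, mul_assoc, ← map_mul, ← QuotientGroup.mk_mul,
            inv_mul_cancel, QuotientGroup.mk_one, map_one, mul_one]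
        have h7 := QuotientGroup.eq.1 hq
        have h8 := T.mul_mem ha (hKT h7)
        rwa [mul_inv_cancel_left] at h8
      exact (CfsgLib.CharTheory.mem_inertia K _ x).1 hxT
    -- fixes every class of `K`
    have hcl : ∀ y : K, IsConj y (MulAut.conjNormal x y) := by
      intro y
      refine isConj_of_forall_irr fun θ => ?_
      have h9 := congrFun (hfix θ) y
      rw [CfsgLib.Clifford.conjChar_eq_comp] at h9
      exact h9.symm
    -- centralises `K`
    have hcent : ∀ y : K, (x : G) * y = y * x := by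
      set S : Subgroup K := (Subgroup.centralizer ({x} : Set G)).subgroupOf K with hS
      have hStop : S = ⊤ := by
        refine CfsgLib.Subnormal.eq_top_of_forall_exists_conj_mem fun y => ?_
        let C := {z : K // IsConj y z}
        letI : MulAction (Subgroup.zpowers x) C :=
          { smul := fun a z => ⟨MulAut.conjNormal (a : G) z.1, by
              obtain ⟨i, hi⟩ := Subgroup.mem_zpowers_iff.1 a.2
              rw [← hi]
              have hstep : ∀ w : K, IsConj y w → IsConj y (MulAut.conjNormal x w) := fun w hw =>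
                (hcl y).trans ((MulAut.conjNormal (H := K) x).toMonoidHom.map_isConj hw)
              have hstep' : ∀ w : K, IsConj y w → IsConj y (MulAut.conjNormal x⁻¹ w) := fun w hw => by
                have h10 := (MulAut.conjNormal (H := K) x⁻¹).toMonoidHom.map_isConj (hcl y)
                refine IsConj.trans ?_ ((MulAut.conjNormal (H := K) x⁻¹).toMonoidHom.map_isConj hw)
                refine IsConj.symm ?_
                convert h10 using 1
                show y = MulAut.conjNormal x⁻¹ (MulAut.conjNormal x y)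
                rw [← MulAut.mul_apply, ← map_mul, inv_mul_cancel, map_one, MulAut.one_apply]
              clear hi
              induction i with
              | zero => simpa using z.2
              | succ i ih => rw [zpow_add_one, (Commute.zpow_self x i).eq, map_mul, MulAut.mul_apply]; exact hstep _ ih
              | pred i ih =>
                rw [zpow_sub_one, ((Commute.zpow_self x (-(i : ℤ))).inv_right).eq, map_mul,
                  MulAut.mul_apply]
                exact hstep' _ ih⟩
            one_smul := fun z => Subtype.ext (by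
              show MulAut.conjNormal ((1 : Subgroup.zpowers x) : G) z.1 = z.1
              simp)
            mul_smul := fun a b z => Subtype.ext (by
              show MulAut.conjNormal ((a * b : Subgroup.zpowers x) : G) z.1 =
                MulAut.conjNormal (a : G) (MulAut.conjNormal (b : G) z.1)
              rw [Subgroup.coe_mul, map_mul, MulAut.mul_apply]) }
        have hCp : ¬ p ∣ Nat.card C := by
          refine fun h11 => hKp (h11.trans ?_)
          rw [show Nat.card C = (Subgroup.centralizer ({y} : Set K)).index from ?_]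
          · exact Subgroup.index_dvd_card _
          · exact CfsgLib.CharTheory.card_isConj y
        have hzp : IsPGroup p (Subgroup.zpowers x) :=
          P.2.to_le (by rw [Subgroup.zpowers_le]; exact hxP)
        obtain ⟨⟨z, hz⟩, hzf⟩ := hzp.nonempty_fixed_point_of_prime_not_dvd_card C hCp
        obtain ⟨c, hc'⟩ := isConj_iff.1 hz
        refine ⟨c, ?_⟩
        rw [hc', hS, Subgroup.mem_subgroupOf, Subgroup.mem_centralizer_singleton_iff]
        have h12 := congrArg Subtype.val (congrArg Subtype.val (hzf ⟨x, Subgroup.mem_zpowers x⟩))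
        change ((MulAut.conjNormal x z : K) : G) = z at h12
        rw [MulAut.conjNormal_apply, mul_inv_eq_iff_eq_mul] at h12
        exact h12.symm
      intro y
      have : y ∈ S := hStop ▸ Subgroup.mem_top y
      rw [hS, Subgroup.mem_subgroupOf, Subgroup.mem_centralizer_singleton_iff] at this
      exact this.symm
    rw [Subgroup.mem_center_iff]
    intro g
    obtain ⟨⟨y, a⟩, rfl, -⟩ := hc.existsUnique g
    have hax : (a : G) * x = x * a :=
      congrArg Subtype.val (Subgroup.mem_center_iff.1 hxc ⟨a, a.2⟩)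
    show (y : G) * (a : G) * x = x * ((y : G) * a)
    rw [mul_assoc, hax, ← mul_assoc, ← hcent y, mul_assoc]
  obtain ⟨k₀, hk₀, hk₀1⟩ := (Subgroup.ne_bot_iff_exists_ne_one.1 hK1).elim
    fun k hk => (⟨k, k.2, fun h1 => hk (Subtype.ext h1)⟩ : ∃ k ∈ K, k ≠ (1 : G))
  -- `P` is not central
  have hPnc : ¬ (P : Subgroup G) ≤ Subgroup.center G := by
    intro hP
    haveI hPn : (P : Subgroup G).Normal := ⟨fun a ha g => by
      rw [Subgroup.mem_center_iff.1 (hP ha) g, mul_inv_cancel_right]; exact ha⟩
    have hKnc : ∃ a ∈ K, ∃ b ∈ K, a * b ≠ b * a := by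
      by_contra hcomm
      push Not at hcomm
      refine hna ⟨⟨fun g g' => ?_⟩⟩
      obtain ⟨⟨y, a⟩, rfl, -⟩ := hc.existsUnique g
      obtain ⟨⟨y', a'⟩, rfl, -⟩ := hc.existsUnique g'
      have e1 := Subgroup.mem_center_iff.1 (hP a.2)
      have e2 := Subgroup.mem_center_iff.1 (hP a'.2)
      show (y : G) * a * ((y' : G) * a') = (y' : G) * a' * ((y : G) * a)
      calc (y : G) * a * ((y' : G) * a') = (y : G) * y' * (a * a') := by
            rw [mul_assoc, ← mul_assoc (a : G), ← e1 y', mul_assoc (y' : G), ← mul_assoc (y : G)]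
        _ = (y' : G) * y * (a' * a) := by rw [hcomm y y.2 y' y'.2, e2 a]
        _ = (y' : G) * a' * ((y : G) * a) := by
            rw [mul_assoc (y' : G) (a' : G), ← mul_assoc (a' : G), ← e2 y, mul_assoc (y : G),
              ← mul_assoc (y' : G)]
    obtain ⟨a, ha, b, hb, hab⟩ := hKnc
    haveI := Fintype.ofFinite K
    set f : G ⧸ (P : Subgroup G) ≃* K := hc.QuotientMulEquiv with hf
    obtain ⟨θ, hθ⟩ : ∃ θ : IrrCharacter K, charDegree (θ : K → ℂ) ≠ 1 := by
      by_contra hall
      push Not at hall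
      refine hab (congrArg Subtype.val (?_ : (⟨a, ha⟩ : K) * ⟨b, hb⟩ = ⟨b, hb⟩ * ⟨a, ha⟩))
      by_contra hne
      have hc1 : ⁅(⟨a, ha⟩ : K), (⟨b, hb⟩ : K)⁆ ≠ 1 := fun h0 => hne (commutatorElement_eq_one_iff_mul_comm.1 h0)
      obtain ⟨θ, hθ⟩ := exists_irr_apply_ne hc1
      obtain ⟨μ, hμ⟩ := exists_hom_of_degree_one θ.2
        (by rw [CfsgLib.ZerosCodegree.irr_apply_one_eq, hall θ, Nat.cast_one])
      refine hθ ?_
      have h1 : μ ⁅(⟨a, ha⟩ : K), (⟨b, hb⟩ : K)⁆ = 1 := by
        rw [map_commutatorElement, commutatorElement_eq_one_iff_mul_comm, mul_comm]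
      rw [hμ]
      show (μ _ : ℂ) = (μ 1 : ℂ)
      rw [h1, map_one]
    obtain ⟨y, hy⟩ := exists_zero θ hθ
    obtain ⟨m, hm1, hm⟩ := h y ⟨⟨_, isIrrCharacter_comp (isIrrCharacter_comp_mulEquiv θ.2 f)
      (f := QuotientGroup.mk' (P : Subgroup G)) (QuotientGroup.mk'_surjective _)⟩, by
        show (θ : K → ℂ) (f ((y : G) : G ⧸ (P : Subgroup G))) = 0
        have : f ((y : G) : G ⧸ (P : Subgroup G)) = y := by rw [← MulEquiv.eq_symm_apply]; rfl
        rw [this, hy]⟩
    exact orderOf_dvd_card_of_prime_to hKp y.2 hm1 hm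
  -- the centre meets `K` trivially
  have hZK : ∀ z ∈ Subgroup.center G, z ∈ K → z = 1 := by
    intro z hz hzK
    by_contra hz1
    exact hPnc fun x hx => key x hx z hzK hz1 (Subgroup.mem_center_iff.1 hz x)
  have hZp : IsPGroup p (Subgroup.center G) := by
    intro z
    obtain ⟨u, v, hu, hv, huv, -, ⟨a, ha⟩, hvco⟩ := CfsgLib.Subnormal.exists_pPart_mul hp (z : G)
    have hle : Subgroup.zpowers (z : G) ≤ Subgroup.center G := Subgroup.zpowers_le.2 z.2
    have hv1 : v = 1 := hZK v (hle hv) (hmemK v ((hp.coprime_iff_not_dvd).1 hvco.symm))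
    refine ⟨a, Subtype.ext ?_⟩
    rw [Subgroup.coe_pow, ← huv, hv1, mul_one, ← ha, pow_orderOf_eq_one]
    rfl
  have hcoreP : pCore p G ≤ (P : Subgroup G) :=
    sSup_le fun N hN => by
      haveI := hN.1
      exact hN.2.le_sylow_of_normal P
  have hcore : Subgroup.center G = pCore p G := by
    refine le_antisymm (le_sSup ⟨inferInstance, hZp⟩) (sSup_le ?_)
    rintro N ⟨hN, hNp⟩ x hx
    haveI := hN
    have hxP : x ∈ (P : Subgroup G) := hcoreP
      (le_sSup (show N ∈ {N : Subgroup G | N.Normal ∧ IsPGroup p N} from ⟨hN, hNp⟩) hx)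
    refine key x hxP k₀ hk₀ hk₀1 ?_
    have hd : Disjoint N K := by
      rw [disjoint_iff, eq_bot_iff]
      intro w ⟨hw1, hw2⟩
      rw [Subgroup.mem_bot]
      obtain ⟨j, hj⟩ := (IsPGroup.iff_orderOf.1 hNp) ⟨w, hw1⟩
      rw [Subgroup.orderOf_mk] at hj
      rcases j with _ | j
      · exact orderOf_eq_one_iff.1 hj
      · exact (orderOf_dvd_card_of_prime_to hKp hw2 (Nat.le_add_left 1 j) hj).elim
    exact Subgroup.commute_of_normal_of_disjoint N K hN hK hd x k₀ hx hk₀
  refine ⟨hcore, (P : Subgroup G).map (QuotientGroup.mk' (Subgroup.center G)), ⟨?_, ?_, ?_⟩, P.2.map _⟩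
  · intro hbot
    refine hPnc fun x hx => ?_
    have : (x : G ⧸ Subgroup.center G) ∈ (P : Subgroup G).map (QuotientGroup.mk' _) :=
      Subgroup.mem_map_of_mem _ hx
    rw [hbot, Subgroup.mem_bot, QuotientGroup.eq_one_iff] at this
    exact this
  · intro htop
    refine hk₀1 ?_
    have : (k₀ : G ⧸ Subgroup.center G) ∈ (P : Subgroup G).map (QuotientGroup.mk' _) :=
      htop ▸ Subgroup.mem_top _
    obtain ⟨x, hx, hxe⟩ := this
    have hk₀P : k₀ ∈ (P : Subgroup G) := by
      have h1 := QuotientGroup.eq.1 hxe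
      have h2 := mul_mem hx (hcoreP (hcore ▸ h1))
      rwa [mul_inv_cancel_left] at h2
    exact hc.disjoint.le_bot ⟨hk₀, hk₀P⟩
  · intro g hg
    obtain ⟨g, rfl⟩ := QuotientGroup.mk_surjective g
    obtain ⟨⟨y, a⟩, rfl, -⟩ := hc.existsUnique g
    rw [eq_bot_iff]
    rintro w ⟨⟨x, hx, rfl⟩, hw⟩
    change QuotientGroup.mk' (Subgroup.center G) x ∈
      MulAut.conj _ • (P : Subgroup G).map (QuotientGroup.mk' (Subgroup.center G)) at hw
    rw [Subgroup.mem_pointwise_smul_iff_inv_smul_mem] at hw
    obtain ⟨b, hb, hbe⟩ := hw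
    rw [MulAut.smul_def, ← map_inv, MulAut.conj_apply, QuotientGroup.mk'_apply,
      QuotientGroup.mk'_apply, ← QuotientGroup.mk_inv, ← QuotientGroup.mk_mul,
      ← QuotientGroup.mk_inv, ← QuotientGroup.mk_mul, QuotientGroup.eq] at hbe
    have hy1 : (y : G) ≠ 1 := fun h1 => hg ⟨a, a.2, by
      show ((a : G) : G ⧸ Subgroup.center G) = (((y : G) * a : G) : G ⧸ Subgroup.center G)
      rw [h1, one_mul]⟩
    -- the conjugate of `x` by `y` lies in `P`
    have h1 : ((y : G) * a)⁻¹ * x * ((y : G) * a) ∈ (P : Subgroup G) := by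
      have h2 := mul_mem hb (hcoreP (hcore ▸ hbe))
      rwa [mul_inv_cancel_left, inv_inv] at h2
    have h3 : (y : G)⁻¹ * x * y ∈ (P : Subgroup G) := by
      have h4 := mul_mem (mul_mem a.2 h1) (inv_mem a.2)
      simpa [mul_assoc] using h4
    have h5 : Commute x (y : G) := by
      have h6 : x⁻¹ * ((y : G)⁻¹ * x * y) = 1 := by
        have hP' : x⁻¹ * ((y : G)⁻¹ * x * y) ∈ (P : Subgroup G) := mul_mem (inv_mem hx) h3
        have hK' : x⁻¹ * ((y : G)⁻¹ * x * y) ∈ K := by
          have := mul_mem (hK.conj_mem _ (inv_mem y.2) x⁻¹) y.2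
          simpa [mul_assoc] using this
        exact hc.disjoint.le_bot ⟨hK', hP'⟩
      rw [inv_mul_eq_one] at h6
      have h7 := congrArg (fun z => (y : G) * z) h6
      simp only [mul_assoc, mul_inv_cancel_left] at h7
      exact h7.symm
    rw [Subgroup.mem_bot, QuotientGroup.mk'_apply, QuotientGroup.eq_one_iff]
    exact key x hx y y.2 hy1 h5

end CfsgLib.Clifford.VanishingP
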